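import Cfsg.Agent.Lib.Core.Cores
import Cfsg.Agent.Lib.Core.Layer
import Cfsg.Agent.Lib.Coprime.Action
import Cfsg.Agent.Lib.PGroup.Basic

/-!
TI elementary abelian subgroups `V` that are maximal abelian normal in their normalizer: the conjugates
of `V` inside `C(V) ∩ O_2(N(V))`.
-/

set_option autoImplicit false
set_option linter.style.haveILetI false

namespace Cfsg.Lib.TIPair

open Subgroup
open scoped commutatorElement

variable {G : Type*} [Group G]

/-- Conjugate of a subgroup. -/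
abbrev cj (g : G) (U : Subgroup G) : Subgroup G := U.map (MulAut.conj g).toMonoidHom

/-- The normalizer of `V`. -/
abbrev Mg (V : Subgroup G) : Subgroup G := normalizer (V : Set G)

/-- The 2-core of the normalizer, in the whole group. -/
abbrev Qg (V : Subgroup G) : Subgroup G := (Cfsg.pCore 2 ↥(Mg V)).map (Mg V).subtype

/-- The centralizer of `V` in the 2-core of its normalizer. -/
abbrev Pg (V : Subgroup G) : Subgroup G := Qg V ⊓ centralizer (V : Set G)

theorem mem_cj {g : G} {U : Subgroup G} {x : G} : x ∈ cj g U ↔ g⁻¹ * x * g ∈ U := by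
  rw [mem_map_equiv]; simp

theorem mem_cj_self {g : G} {U : Subgroup G} {x : G} (hx : x ∈ U) : g * x * g⁻¹ ∈ cj g U :=
  ⟨x, hx, rfl⟩

theorem cj_one (U : Subgroup G) : cj 1 U = U := by ext x; rw [mem_cj]; simp

theorem cj_cj (g h : G) (U : Subgroup G) : cj g (cj h U) = cj (g * h) U := by
  ext x; rw [mem_cj, mem_cj, mem_cj]; simp [mul_assoc]

theorem cj_mono {g : G} {U W : Subgroup G} (h : U ≤ W) : cj g U ≤ cj g W := map_mono h

theorem cj_of_mem_Mg {g : G} {V : Subgroup G} (h : g ∈ Mg V) : cj g V = V := by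
  ext x
  rw [mem_cj]
  exact (mem_normalizer_iff''.1 h x).symm

theorem mem_Mg_of_cj {g : G} {V : Subgroup G} (h : cj g V = V) : g ∈ Mg V :=
  mem_normalizer_iff''.2 fun x => by
    conv_lhs => rw [← h]
    rw [mem_cj]

theorem cj_of_mem_centralizer {g : G} {U : Subgroup G} (h : g ∈ centralizer (U : Set G)) : cj g U = U :=
  cj_of_mem_Mg (centralizer_le_normalizer _ h)

theorem commutator_eq_bot_iff' {A B : Subgroup G} : ⁅A, B⁆ = ⊥ ↔ ∀ a ∈ A, ∀ b ∈ B, a * b = b * a :=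
  Cfsg.Lib.Core.commutator_eq_bot_iff_forall

theorem mem_centralizer' {A : Subgroup G} {g : G} :
    g ∈ centralizer (A : Set G) ↔ ∀ a ∈ A, a * g = g * a := mem_centralizer_iff

variable [Finite G]

theorem Qg_cj (g : G) (V : Subgroup G) : Qg (cj g V) = cj g (Qg V) := by
  set e := MulAut.conj g
  have hN : Mg (cj g V) = (Mg V).map e.toMonoidHom := (map_equiv_normalizer_eq V e).symm
  have h : ∀ (H K : Subgroup G) (he : K = H.map e.toMonoidHom),
      (Cfsg.pCore 2 ↥K).map K.subtype = ((Cfsg.pCore 2 ↥H).map H.subtype).map e.toMonoidHom := by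
    intro H K he
    subst he
    rw [← Cfsg.Lib.Core.map_pCore_equiv (p := 2) (H.equivMapOfInjective e.toMonoidHom e.injective), map_map,
      map_map]
    rfl
  exact h _ _ hN

theorem Pg_cj (g : G) (V : Subgroup G) : Pg (cj g V) = cj g (Pg V) := by
  show Qg (cj g V) ⊓ centralizer ((cj g V : Subgroup G) : Set G) = cj g (Qg V ⊓ centralizer (V : Set G))
  rw [Qg_cj]
  ext x
  constructor
  · rintro ⟨h1, h2⟩
    refine mem_cj.2 ⟨mem_cj.1 h1, mem_centralizer'.2 fun v hv => ?_⟩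
    have h := mem_centralizer'.1 h2 _ (mem_cj_self (g := g) hv)
    calc v * (g⁻¹ * x * g) = g⁻¹ * (g * v * g⁻¹ * x) * g := by group
      _ = g⁻¹ * (x * (g * v * g⁻¹)) * g := by rw [h]
      _ = g⁻¹ * x * g * v := by group
  · intro hx
    obtain ⟨y, ⟨h1, h2⟩, rfl⟩ := hx
    refine ⟨mem_map_of_mem _ h1, mem_centralizer'.2 ?_⟩
    rintro _ ⟨v, hv, rfl⟩
    show (MulAut.conj g) v * (MulAut.conj g) y = (MulAut.conj g) y * (MulAut.conj g) v
    rw [← map_mul, ← map_mul, mem_centralizer'.1 h2 v hv]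

/-- The hypotheses on `V`. -/
structure Hyp (V : Subgroup G) : Prop where
  comm : ∀ a ∈ V, ∀ b ∈ V, a * b = b * a
  sq : ∀ a ∈ V, a * a = 1
  ne_bot : V ≠ ⊥
  char_two : ∀ x ∈ Mg V, x ∈ centralizer (Qg V : Set G) → x ∈ Qg V
  max_abelian : ∀ A : Subgroup G, V ≤ A → A ≤ Mg V → (∀ a ∈ A, ∀ b ∈ A, a * b = b * a) →
    (∀ m ∈ Mg V, ∀ a ∈ A, m * a * m⁻¹ ∈ A) → A = V
  ti : ∀ x : G, cj x V = V ∨ cj x V ⊓ V = ⊥

variable {V : Subgroup G}

theorem Hyp.ti' (h : Hyp V) {x y : G} {w : G} (hw : w ∈ cj x V) (hw' : w ∈ cj y V) (hw1 : w ≠ 1) :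
    cj x V = cj y V := by
  rcases h.ti (y⁻¹ * x) with he | he
  · conv_rhs => rw [← he]
    rw [cj_cj, show y * (y⁻¹ * x) = x by group]
  · refine absurd ?_ hw1
    have hm : y⁻¹ * w * y ∈ cj (y⁻¹ * x) V ⊓ V := by
      refine ⟨mem_cj.2 ?_, mem_cj.1 hw'⟩
      have := mem_cj.1 hw
      convert this using 1
      group
    rw [he, mem_bot] at hm
    calc w = y * (y⁻¹ * w * y) * y⁻¹ := by group
      _ = 1 := by rw [hm]; group

theorem Hyp.conjugate (h : Hyp V) (g : G) : Hyp (cj g V) where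
  comm := by
    rintro _ ⟨a, ha, rfl⟩ _ ⟨b, hb, rfl⟩
    rw [← map_mul, ← map_mul, h.comm a ha b hb]
  sq := by
    rintro _ ⟨a, ha, rfl⟩
    rw [← map_mul, h.sq a ha, map_one]
  ne_bot := fun hb => h.ne_bot ((map_eq_bot_iff_of_injective _ (MulAut.conj g).injective).1 hb)
  char_two := by
    intro x hx hc
    rw [Qg_cj] at hc ⊢
    refine mem_cj.2 (h.char_two _ ?_ (mem_centralizer'.2 fun q hq => ?_))
    · have hx' : x ∈ (Mg V).map (MulAut.conj g).toMonoidHom := by rw [map_equiv_normalizer_eq]; exact hx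
      exact mem_cj.1 hx'
    · have := mem_centralizer'.1 hc _ (mem_cj_self (g := g) hq)
      calc q * (g⁻¹ * x * g) = g⁻¹ * (g * q * g⁻¹ * x) * g := by group
        _ = g⁻¹ * (x * (g * q * g⁻¹)) * g := by rw [this]
        _ = g⁻¹ * x * g * q := by group
  max_abelian := by
    intro A hVA hAM hA hn
    have hM : ∀ y, y ∈ Mg V ↔ g * y * g⁻¹ ∈ Mg (cj g V) := fun y => by
      rw [show Mg (cj g V) = (Mg V).map (MulAut.conj g).toMonoidHom from (map_equiv_normalizer_eq V _).symm,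
        mem_cj]
      exact ⟨fun hy => by simpa [mul_assoc] using hy, fun hy => by simpa [mul_assoc] using hy⟩
    have he := h.max_abelian (cj g⁻¹ A) ?_ ?_ ?_ ?_
    · rw [← he, cj_cj, mul_inv_cancel, cj_one]
    · intro v hv
      exact mem_cj.2 (by simpa using hVA (mem_cj_self (g := g) hv))
    · intro y hy
      exact (hM y).2 (hAM (by simpa using mem_cj.1 hy))
    · rintro _ ⟨a, ha, rfl⟩ _ ⟨b, hb, rfl⟩
      rw [← map_mul, ← map_mul, hA a ha b hb]
    · intro m hm a ha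
      refine mem_cj.2 ?_
      have := hn _ ((hM m).1 hm) _ (mem_cj.1 ha)
      convert this using 1
      group
  ti := by
    intro x
    rcases Classical.em (∃ w, w ∈ cj x (cj g V) ⊓ cj g V ∧ w ≠ 1) with ⟨w, hw, hw1⟩ | hne
    · left
      rw [cj_cj] at hw ⊢
      exact h.ti' (mem_inf.1 hw).1 (mem_inf.1 hw).2 hw1
    · right
      refine (Subgroup.eq_bot_iff_forall _).2 fun w hw => ?_
      by_contra hw1
      exact hne ⟨w, hw, hw1⟩

theorem Hyp.V_le_Mg (_h : Hyp V) : V ≤ Mg V := le_normalizer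

theorem Qg_le_Mg (V : Subgroup G) : Qg V ≤ Mg V := map_subtype_le _

theorem isPGroup_Qg (V : Subgroup G) : IsPGroup 2 ↥(Qg V) := by
  haveI : Fact (Nat.Prime 2) := ⟨Nat.prime_two⟩
  exact (Cfsg.Lib.Core.pCore_isPGroup 2 _).map _

theorem le_Qg {H : Subgroup G} (hH : H ≤ Mg V) (hn : ∀ m ∈ Mg V, ∀ a ∈ H, m * a * m⁻¹ ∈ H)
    (hp : IsPGroup 2 ↥H) : H ≤ Qg V := by
  rw [← map_subgroupOf_eq_of_le hH]
  exact map_mono (Cfsg.Lib.Core.le_pCore' ⟨fun a ha m => hn m m.2 a ha⟩ hp.comap_subtype)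

theorem Hyp.V_le_Qg (h : Hyp V) : V ≤ Qg V :=
  le_Qg h.V_le_Mg (fun m hm a ha => (mem_normalizer_iff.1 hm a).1 ha) (fun ⟨a, ha⟩ => ⟨1, Subtype.ext (by
    show a ^ (2 ^ 1) = 1
    rw [pow_one, pow_two, h.sq a ha])⟩)

theorem Hyp.V_le_Pg (h : Hyp V) : V ≤ Pg V :=
  le_inf h.V_le_Qg fun v hv => mem_centralizer'.2 fun a ha => h.comm a ha v hv

theorem Pg_le_Mg (V : Subgroup G) : Pg V ≤ Mg V := inf_le_left.trans (Qg_le_Mg V)

theorem Pg_le_centralizer (V : Subgroup G) : Pg V ≤ centralizer (V : Set G) := inf_le_right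

theorem Qg_conj_mem {m q : G} (hm : m ∈ Mg V) (hq : q ∈ Qg V) : m * q * m⁻¹ ∈ Qg V := by
  obtain ⟨r, hr, rfl⟩ := hq
  refine ⟨⟨m, hm⟩ * r * ⟨m, hm⟩⁻¹, ?_, rfl⟩
  exact Normal.conj_mem (inferInstance : (Cfsg.pCore 2 ↥(Mg V)).Normal) r hr _

theorem centralizer_conj_mem {m x : G} (hm : m ∈ Mg V) (hx : x ∈ centralizer (V : Set G)) :
    m * x * m⁻¹ ∈ centralizer (V : Set G) :=
  mem_centralizer'.2 fun v hv => by
    have := mem_centralizer'.1 hx _ ((mem_normalizer_iff''.1 hm v).1 hv)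
    calc v * (m * x * m⁻¹) = m * (m⁻¹ * v * m * x) * m⁻¹ := by group
      _ = m * (x * (m⁻¹ * v * m)) * m⁻¹ := by rw [this]
      _ = m * x * m⁻¹ * v := by group

theorem Pg_conj_mem {m x : G} (hm : m ∈ Mg V) (hx : x ∈ Pg V) : m * x * m⁻¹ ∈ Pg V :=
  ⟨Qg_conj_mem hm hx.1, centralizer_conj_mem hm hx.2⟩

theorem Hyp.le_V_of_abelian (h : Hyp V) {A : Subgroup G} (hAM : A ≤ Mg V)
    (hA : ∀ a ∈ A, ∀ b ∈ A, a * b = b * a) (hAV : A ≤ centralizer (V : Set G))
    (hn : ∀ m ∈ Mg V, ∀ a ∈ A, m * a * m⁻¹ ∈ A) : A ≤ V := by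
  have hc : ⁅A, V⁆ = ⊥ := commutator_eq_bot_iff'.2 fun a ha v hv => (mem_centralizer'.1 (hAV ha) v hv).symm
  have he := h.max_abelian (A ⊔ V) le_sup_right (sup_le hAM h.V_le_Mg) ?_ ?_
  · exact le_sup_left.trans he.le
  · intro x hx y hy
    obtain ⟨a, ha, v, hv, rfl⟩ := (Cfsg.Lib.Core.mem_sup_of_commute hc).1 hx
    obtain ⟨b, hb, w, hw, rfl⟩ := (Cfsg.Lib.Core.mem_sup_of_commute hc).1 hy
    have c1 : Commute a b := hA a ha b hb
    have c2 : Commute a w := (mem_centralizer'.1 (hAV ha) w hw).symm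
    have c3 : Commute v b := mem_centralizer'.1 (hAV hb) v hv
    have c4 : Commute v w := h.comm v hv w hw
    exact ((c1.mul_right c2).mul_left (c3.mul_right c4)).eq
  · intro m hm x hx
    obtain ⟨a, ha, v, hv, rfl⟩ := (Cfsg.Lib.Core.mem_sup_of_commute hc).1 hx
    rw [show m * (a * v) * m⁻¹ = (m * a * m⁻¹) * (m * v * m⁻¹) by group]
    exact mul_mem (mem_sup_left (hn m hm a ha)) (mem_sup_right ((mem_normalizer_iff.1 hm v).1 hv))

/-- `Z(P) = V`. -/
theorem Hyp.center_Pg (h : Hyp V) {x : G} (hx : x ∈ Pg V) (hc : ∀ p ∈ Pg V, p * x = x * p) : x ∈ V := by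
  refine h.le_V_of_abelian (A := Pg V ⊓ centralizer (Pg V : Set G)) (inf_le_left.trans (Pg_le_Mg V))
    (fun a ha b hb => mem_centralizer'.1 hb.2 a ha.1) (inf_le_left.trans (Pg_le_centralizer V)) ?_
    ⟨hx, mem_centralizer'.2 hc⟩
  intro m hm a ha
  refine ⟨Pg_conj_mem hm ha.1, mem_centralizer'.2 fun p hp => ?_⟩
  have := mem_centralizer'.1 ha.2 _ (Pg_conj_mem (inv_mem hm) hp)
  calc p * (m * a * m⁻¹) = m * (m⁻¹ * p * m⁻¹⁻¹ * a) * m⁻¹ := by group
    _ = m * (a * (m⁻¹ * p * m⁻¹⁻¹)) * m⁻¹ := by rw [this]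
    _ = m * a * m⁻¹ * p := by group

theorem Pg_commute_V {p v : G} (hp : p ∈ Pg V) (hv : v ∈ V) : v * p = p * v :=
  mem_centralizer'.1 hp.2 v hv

/-- `P` has class at most two. -/
theorem Hyp.commutator_mem (h : Hyp V) {p q : G} (hp : p ∈ Pg V) (hq : q ∈ Pg V) : ⁅p, q⁆ ∈ V := by
  haveI : Fact (Nat.Prime 2) := ⟨Nat.prime_two⟩
  have hVP := h.V_le_Pg
  have key : ∀ a ∈ V, ∀ y ∈ Pg V, y * a = a * y := fun a ha y hy => (Pg_commute_V hy ha).symm
  let Z2 : Subgroup G :=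
    { carrier := {x | x ∈ Pg V ∧ ∀ y ∈ Pg V, ⁅x, y⁆ ∈ V}
      one_mem' := ⟨one_mem _, fun y _ => by simp⟩
      mul_mem' := fun {a b} ha hb => ⟨mul_mem ha.1 hb.1, fun y hy => by
        rw [commutatorElement_mul_left_eq_conj_mul, key _ (hb.2 y hy) a ha.1, mul_inv_cancel_right]
        exact mul_mem (hb.2 y hy) (ha.2 y hy)⟩
      inv_mem' := fun {a} ha => ⟨inv_mem ha.1, fun y hy => by
        have h1 : ⁅a⁻¹, y⁆ = a⁻¹ * ⁅a, y⁆⁻¹ * a := by simp [commutatorElement_def, mul_assoc]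
        rw [h1, mul_assoc, ← key _ (inv_mem (ha.2 y hy)) a ha.1, inv_mul_cancel_left]
        exact inv_mem (ha.2 y hy)⟩ }
  set D := ⁅Pg V, Pg V⁆ with hD
  have hDP : D ≤ Pg V := commutator_le_self _
  have hA : D ⊓ Z2 ≤ V := by
    have hzero : ⁅⁅Z2, Pg V⁆, Pg V⁆ = ⊥ := by
      refine le_bot_iff.1 ((commutator_mono (show ⁅Z2, Pg V⁆ ≤ V from commutator_le.2 fun a ha b hb => ha.2 b hb) le_rfl).trans ?_)
      exact (commutator_eq_bot_iff'.2 fun a ha y hy => (key a ha y hy).symm).le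
    have hz : ⁅D, Z2⁆ = ⊥ := commutator_commutator_eq_bot_of_rotate
      (by rw [commutator_comm (Pg V) Z2]; exact hzero) hzero
    refine h.le_V_of_abelian (inf_le_left.trans (hDP.trans (Pg_le_Mg V)))
      (fun a ha b hb => commutator_eq_bot_iff'.1 hz a ha.1 b hb.2)
      (inf_le_left.trans (hDP.trans (Pg_le_centralizer V))) ?_
    intro m hm a ha
    refine ⟨?_, Pg_conj_mem hm ha.2.1, fun y hy => ?_⟩
    · have hmap : D.map (MulAut.conj m).toMonoidHom ≤ D := by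
        rw [hD, map_commutator]
        refine commutator_mono ?_ ?_ <;>
          exact map_le_iff_le_comap.2 fun z hz => Pg_conj_mem hm hz
      exact hmap (mem_map_of_mem _ ha.1)
    · have := ha.2.2 _ (Pg_conj_mem (inv_mem hm) hy)
      have h2 := (mem_normalizer_iff.1 hm _).1 this
      convert h2 using 1
      simp [commutatorElement_def, mul_assoc]
  by_contra hne
  set Vn := V.subgroupOf (Pg V) with hVn
  haveI : Vn.Normal := ⟨fun a ha y => by
    show (y : G) * (a : G) * (y : G)⁻¹ ∈ V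
    rw [key (a : G) ha y y.2, mul_inv_cancel_right]
    exact ha⟩
  set N := (D.subgroupOf (Pg V)).map (QuotientGroup.mk' Vn) with hN
  haveI : (D.subgroupOf (Pg V)).Normal := ⟨fun a ha y => by
    have hmap : D.map (MulAut.conj (y : G)).toMonoidHom ≤ D := by
      rw [hD, map_commutator]
      refine commutator_mono ?_ ?_ <;>
        exact map_le_iff_le_comap.2 fun z hz => mul_mem (mul_mem y.2 hz) (inv_mem y.2)
    exact hmap (mem_map_of_mem (MulAut.conj (y : G)).toMonoidHom (show (a : G) ∈ D from ha))⟩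
  haveI : N.Normal := Subgroup.Normal.map inferInstance _ (QuotientGroup.mk'_surjective _)
  have hN1 : N ≠ ⊥ := by
    intro hN0
    rw [hN, Subgroup.map_eq_bot_iff, QuotientGroup.ker_mk'] at hN0
    have hDm : ⁅p, q⁆ ∈ D := commutator_mem_commutator hp hq
    exact hne (hN0 (show (⟨⁅p, q⁆, hDP hDm⟩ : ↥(Pg V)) ∈ D.subgroupOf (Pg V) from hDm))
  have hPg : IsPGroup 2 ↥(Pg V) := (isPGroup_Qg V).to_le inf_le_left
  obtain ⟨⟨z, hz⟩, hz1⟩ := ne_bot_iff_exists_ne_one.1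
    (Cfsg.Lib.PGroup.inf_center_ne_bot (hPg.to_quotient Vn) (N := N) hN1)
  obtain ⟨⟨x, hxD, rfl⟩, hxc⟩ := hz
  refine hz1 (Subtype.ext ((QuotientGroup.eq_one_iff x).2 (hA ⟨hxD, x.2, fun y hy => ?_⟩)))
  have h1 := (mem_center_iff.1 hxc (QuotientGroup.mk' Vn ⟨y, hy⟩)).symm
  rw [← commutatorElement_eq_one_iff_mul_comm, ← map_commutatorElement] at h1
  exact (QuotientGroup.eq_one_iff (N := Vn) ⁅x, (⟨y, hy⟩ : ↥(Pg V))⁆).1 h1

theorem Hyp.commutator_comm_mem (h : Hyp V) {p q r : G} (hp : p ∈ Pg V) (hq : q ∈ Pg V) (hr : r ∈ Pg V) :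
    Commute ⁅p, q⁆ r := Pg_commute_V hr (h.commutator_mem hp hq)

theorem Hyp.commutator_mul_left' (h : Hyp V) {p q r : G} (hp : p ∈ Pg V) (hq : q ∈ Pg V) (hr : r ∈ Pg V) :
    ⁅p * q, r⁆ = ⁅p, r⁆ * ⁅q, r⁆ := by
  rw [commutatorElement_mul_left_eq_conj_mul, ← (h.commutator_comm_mem hq hr hp).eq, mul_inv_cancel_right]
  exact (h.comm _ (h.commutator_mem hq hr) _ (h.commutator_mem hp hr))

theorem Hyp.commutator_mul_right' (h : Hyp V) {p q r : G} (hp : p ∈ Pg V) (hq : q ∈ Pg V) (hr : r ∈ Pg V) :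
    ⁅r, p * q⁆ = ⁅r, p⁆ * ⁅r, q⁆ := by
  rw [commutatorElement_mul_right_eq_mul_conj, mul_assoc ⁅r, p⁆, ← (h.commutator_comm_mem hr hq hp).eq, mul_assoc,
    mul_inv_cancel_right]

theorem Hyp.sq_mem (h : Hyp V) {p : G} (hp : p ∈ Pg V) : p * p ∈ V := by
  refine h.center_Pg (mul_mem hp hp) fun q hq => ?_
  have h1 : ⁅p * p, q⁆ = 1 := by
    rw [h.commutator_mul_left' hp hp hq, h.sq _ (h.commutator_mem hp hq)]
  exact (commutatorElement_eq_one_iff_mul_comm.1 h1).symm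

/-- An element fixing `V` and `P / V` lies in `P`. -/
theorem Hyp.mem_Pg_of_stabilizes (h : Hyp V) {x : G} (hxM : x ∈ Mg V) (hxV : x ∈ centralizer (V : Set G))
    (hx : ∀ p ∈ Pg V, ⁅x, p⁆ ∈ V) : x ∈ Pg V := by
  haveI : Fact (Nat.Prime 2) := ⟨Nat.prime_two⟩
  let J : Subgroup G :=
    { carrier := {x | x ∈ Mg V ∧ x ∈ centralizer (V : Set G) ∧ ∀ p ∈ Pg V, ⁅x, p⁆ ∈ V}
      one_mem' := ⟨one_mem _, one_mem _, fun p _ => by simp⟩
      mul_mem' := fun {a b} ha hb => ⟨mul_mem ha.1 hb.1, mul_mem ha.2.1 hb.2.1, fun p hp => by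
        rw [commutatorElement_mul_left_eq_conj_mul, ← mem_centralizer'.1 ha.2.1 _ (hb.2.2 p hp), mul_inv_cancel_right]
        exact mul_mem (hb.2.2 p hp) (ha.2.2 p hp)⟩
      inv_mem' := fun {a} ha => ⟨inv_mem ha.1, inv_mem ha.2.1, fun p hp => by
        have h1 : ⁅a⁻¹, p⁆ = a⁻¹ * ⁅a, p⁆⁻¹ * a := by simp [commutatorElement_def, mul_assoc]
        rw [h1, mul_assoc, mem_centralizer'.1 ha.2.1 _ (inv_mem (ha.2.2 p hp)), inv_mul_cancel_left]
        exact inv_mem (ha.2.2 p hp)⟩ }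
  have hJn : ∀ m ∈ Mg V, ∀ a ∈ J, m * a * m⁻¹ ∈ J := fun m hm a ha =>
    ⟨mul_mem (mul_mem hm ha.1) (inv_mem hm), centralizer_conj_mem hm ha.2.1, fun p hp => by
      have := (mem_normalizer_iff.1 hm _).1 (ha.2.2 _ (Pg_conj_mem (inv_mem hm) hp))
      convert this using 1
      simp [commutatorElement_def, mul_assoc]⟩
  have hJ2 : IsPGroup 2 ↥J := by
    rw [IsPGroup.iff_card]
    refine ⟨_, Nat.eq_prime_pow_of_unique_prime_dvd Nat.card_pos.ne' fun {l} hl hld => ?_⟩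
    by_contra hl2
    haveI : Fact l.Prime := ⟨hl⟩
    obtain ⟨y, hy⟩ := exists_prime_orderOf_dvd_card' l hld
    set A := zpowers (y : G) with hAdef
    have hyl : orderOf (y : G) = l := by rw [Subgroup.orderOf_coe]; exact hy
    have hAJ : A ≤ J := zpowers_le.2 y.2
    have hcop : ∀ H : Subgroup G, IsPGroup 2 ↥H → (Nat.card ↥A).Coprime (Nat.card ↥H) := by
      intro H hH
      obtain ⟨k, hk⟩ := IsPGroup.iff_card.1 hH
      rw [Nat.card_zpowers, hyl, hk]
      exact Nat.Coprime.pow_right k ((Nat.coprime_primes hl Nat.prime_two).2 hl2)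
    have hAP : A ≤ normalizer (Pg V : Set G) := fun a ha => mem_normalizer_iff.2 fun z =>
      ⟨fun hz => Pg_conj_mem (hAJ ha).1 hz, fun hz => by
        simpa [mul_assoc] using Pg_conj_mem (inv_mem (hAJ ha).1) hz⟩
    have hAQ : A ≤ normalizer (Qg V : Set G) := fun a ha => mem_normalizer_iff.2 fun z =>
      ⟨fun hz => Qg_conj_mem (hAJ ha).1 hz, fun hz => by
        simpa [mul_assoc] using Qg_conj_mem (inv_mem (hAJ ha).1) hz⟩
    have h1 : ⁅Pg V, A⁆ = ⊥ := by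
      refine Cfsg.Lib.Coprime.commutator_eq_bot_of_stabilizes hAP (hcop _ ((isPGroup_Qg V).to_le inf_le_left))
        (Or.inl inferInstance) (N := V) ?_ ?_
      · rw [commutator_comm]; exact commutator_le.2 fun a ha p hp => (hAJ ha).2.2 p hp
      · exact commutator_eq_bot_iff'.2 fun v hv a ha => mem_centralizer'.1 (hAJ ha).2.1 v hv
    have h2 : ⁅Qg V, A⁆ = ⊥ := by
      refine Cfsg.Lib.Coprime.commutator_eq_bot_of_commutator_commutator_eq_bot hAQ (hcop _ (isPGroup_Qg V))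
        (Or.inl inferInstance) ?_
      have hle : ⁅Qg V, A⁆ ≤ Qg V := Cfsg.Lib.Coprime.commutator_le_of_le_normalizer hAQ
      have h3 : ⁅⁅Qg V, A⁆, Pg V⁆ = ⊥ := by
        refine commutator_commutator_eq_bot_of_rotate ?_ ?_
        · rw [commutator_comm A (Pg V), h1, commutator_bot_left]
        · refine le_bot_iff.1 ((commutator_mono (commutator_le.2 fun p hp q hq => ?_) le_rfl).trans h1.le)
          have hc := Pg_conj_mem (Qg_le_Mg V hq) (inv_mem hp)
          rw [show ⁅p, q⁆ = p * (q * p⁻¹ * q⁻¹) by simp [commutatorElement_def, mul_assoc]]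
          exact mul_mem hp hc
      have h4 : ⁅Qg V, A⁆ ≤ Pg V := by
        intro z hz
        refine ⟨hle hz, mem_centralizer'.2 fun v hv => ?_⟩
        exact (commutator_eq_bot_iff'.1 h3 z hz v (h.V_le_Pg hv)).symm
      exact le_bot_iff.1 ((commutator_mono h4 le_rfl).trans h1.le)
    have hyA : (y : G) ∈ A := mem_zpowers _
    have hyQ : (y : G) ∈ Qg V := h.char_two _ y.2.1
      (mem_centralizer'.2 fun q hq => commutator_eq_bot_iff'.1 h2 q hq _ hyA)
    obtain ⟨k, hk⟩ := IsPGroup.iff_card.1 (isPGroup_Qg V)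
    have hdvd := (Subgroup.orderOf_dvd_natCard (Qg V) hyQ)
    rw [hyl, hk] at hdvd
    exact hl2 ((Nat.prime_dvd_prime_iff_eq hl Nat.prime_two).1 (hl.dvd_of_dvd_pow hdvd))
  exact ⟨le_Qg (H := J) (fun a ha => ha.1) hJn hJ2 ⟨hxM, hxV, hx⟩, hxV⟩

/-- A conjugate of `V` normalizing `V` centralizes it. -/
theorem Hyp.commute_of_le (h : Hyp V) {g : G} (hg : cj g V ≤ Mg V) :
    cj g V ≤ centralizer (V : Set G) := by
  set U := cj g V with hU
  by_cases hUV : U = V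
  · rw [hUV]; exact fun v hv => mem_centralizer'.2 fun a ha => h.comm a ha v hv
  have hinter : ∀ z, z ∈ U → z ∈ V → z = 1 := fun z hz hz' => by
    rcases h.ti g with he | he
    · exact absurd he hUV
    · exact (mem_bot.1 (he ▸ mem_inf.2 ⟨hz, hz'⟩ : z ∈ (⊥ : Subgroup G)))
  have hU' := h.conjugate g
  set C := V ⊓ centralizer (U : Set G) with hC
  have hfix : ∀ v ∈ V, ∀ u ∈ U, u ≠ 1 → v * u = u * v → v ∈ C := by
    intro v hv u hu hu1 hvu
    have hvN : v ∈ Mg U := by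
      rcases hU'.ti v with he | he
      · exact mem_Mg_of_cj he
      · refine absurd ?_ hu1
        have hm : u ∈ cj v U ⊓ U := ⟨mem_cj.2 (by
          rw [show v⁻¹ * u * v = u by rw [mul_assoc, ← hvu, inv_mul_cancel_left]]; exact hu), hu⟩
        rwa [he, mem_bot] at hm
    refine ⟨hv, mem_centralizer'.2 fun u' hu' => ?_⟩
    have h1 : ⁅v, u'⁆ ∈ U := by
      rw [commutatorElement_def]
      exact mul_mem ((mem_normalizer_iff.1 hvN u').1 hu') (inv_mem hu')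
    have h2 : ⁅v, u'⁆ ∈ V := by
      rw [commutatorElement_def, show v * u' * v⁻¹ * u'⁻¹ = v * (u' * v⁻¹ * u'⁻¹) by group]
      exact mul_mem hv ((mem_normalizer_iff.1 (hg hu') _).1 (inv_mem hv))
    exact (commutatorElement_eq_one_iff_mul_comm.1 (hinter _ h1 h2)).symm
  by_contra hnot
  obtain ⟨v, hv, hvC⟩ : ∃ v ∈ V, v ∉ C := by
    by_contra hh
    push Not at hh
    exact hnot fun u hu => mem_centralizer'.2 fun w hw => (mem_centralizer'.1 (hh w hw).2 u hu).symm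
  have hmem : ∀ u : ↥U, ⁅(u : G), v⁆ ∈ C := by
    intro u
    have hwV : ⁅(u : G), v⁆ ∈ V := by
      rw [commutatorElement_def]
      exact mul_mem ((mem_normalizer_iff.1 (hg u.2) v).1 hv) (inv_mem hv)
    by_cases hu1 : (u : G) = 1
    · simp [hu1]
    refine hfix _ hwV u u.2 hu1 ?_
    have hu2 : (u : G)⁻¹ = u := inv_eq_of_mul_eq_one_right (hU'.sq _ u.2)
    have hv2 : v⁻¹ = v := inv_eq_of_mul_eq_one_right (h.sq _ hv)
    have hw2 : (⁅(u : G), v⁆)⁻¹ = ⁅(u : G), v⁆ := inv_eq_of_mul_eq_one_right (h.sq _ hwV)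
    calc ⁅(u : G), v⁆ * u = (u * v * u * v) * u := by rw [commutatorElement_def, hu2, hv2]
      _ = u * (v * u * v * u) := by group
      _ = u * (u * v * u * v)⁻¹ := by rw [mul_inv_rev, mul_inv_rev, mul_inv_rev, hu2, hv2]; group
      _ = u * ⁅(u : G), v⁆⁻¹ := by rw [commutatorElement_def, hu2, hv2]
      _ = u * ⁅(u : G), v⁆ := by rw [hw2]
  have hinj : Function.Injective (fun u : ↥U => (⟨⁅(u : G), v⁆, hmem u⟩ : ↥C)) := by
    intro a b hab
    have hab' : ⁅(a : G), v⁆ = ⁅(b : G), v⁆ := congrArg Subtype.val hab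
    by_contra hne
    have h1 : ⁅(b : G)⁻¹ * a, v⁆ = 1 := by
      rw [commutatorElement_mul_left_eq_conj_mul, hab']
      have h2 : ⁅(b : G)⁻¹, v⁆ = (b : G)⁻¹ * ⁅(b : G), v⁆⁻¹ * b := by simp [commutatorElement_def, mul_assoc]
      rw [h2]
      group
    exact hvC (hfix v hv _ (mul_mem (inv_mem b.2) a.2)
      (fun e => hne (Subtype.ext (inv_mul_eq_one.1 e).symm)) (commutatorElement_eq_one_iff_mul_comm.1 h1).symm)
  have hle := Nat.card_le_card_of_injective _ hinj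
  have hCV : C = V := eq_of_le_of_card_ge inf_le_left (by
    rw [hU, card_map_of_injective (MulAut.conj g).injective] at hle
    exact hle)
  exact hvC (hCV.symm ▸ hv)

/-- A conjugate of `V` in `O_2(N(V))` lies in `P`. -/
theorem Hyp.le_Pg_of_le_Qg (h : Hyp V) {g : G} (hg : cj g V ≤ Qg V) : cj g V ≤ Pg V :=
  le_inf hg (h.commute_of_le (hg.trans (Qg_le_Mg V)))

end Cfsg.Lib.TIPair
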