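import Cfsg.Agent.Lib.TIPair.Symm
import Cfsg.Agent.Lib.Algebra.JordanDivision

/-!
The maps `u ↦ ⁅p, u⁆` form a field.
-/

set_option autoImplicit false
set_option linter.style.haveILetI false

namespace Cfsg.Lib.TIPair

open Subgroup
open scoped commutatorElement

variable {G : Type*} [Group G] [Finite G] {V U : Subgroup G}

theorem Member.split_unique (h : Hyp V) (hU : Member V U) {v v' u u' : G} (hv : v ∈ V) (hv' : v' ∈ V)
    (hu : u ∈ U) (hu' : u' ∈ U) (he : v * u = v' * u') : v = v' ∧ u = u' := by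
  have h1 : v'⁻¹ * v = u' * u⁻¹ := by
    calc v'⁻¹ * v = v'⁻¹ * (v * u) * u⁻¹ := by group
      _ = v'⁻¹ * (v' * u') * u⁻¹ := by rw [he]
      _ = u' * u⁻¹ := by group
  have h2 : u' * u⁻¹ = 1 := hU.inter h (mul_mem hu' (inv_mem hu)) (h1 ▸ mul_mem (inv_mem hv') hv)
  exact ⟨(inv_mul_eq_one.1 (h1.trans h2)).symm, (mul_inv_eq_one.1 h2).symm⟩

theorem Member.comm_inv (h : Hyp V) (hU : Member V U) {p u : G} (hp : p ∈ Pg V) (hu : u ∈ U) :
    ⁅p⁻¹, u⁆ = ⁅p, u⁆ := by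
  have h1 : ⁅p⁻¹, u⁆ * ⁅p, u⁆ = 1 := by
    rw [← h.commutator_mul_left' (inv_mem hp) hp (hU.le hu), inv_mul_cancel, commutatorElement_one_left]
  rw [eq_inv_of_mul_eq_one_left h1]
  exact inv_eq_of_mul_eq_one_right (h.sq _ (h.commutator_mem hp (hU.le hu)))

/-- The unipotent elements matching `y`. -/
theorem Member.exists_match (h : Hyp V) (hU : Member V U) {y : G} (hy : y ∈ Pg V)
    (hyc : y ∉ centralizer (U : Set G)) :
    ∃ r ∈ Pg U, cj r V = cj y U ∧ ∀ u ∈ U, ⁅r, ⁅y, u⁆⁆ = u := by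
  have hUh := hU.hyp h
  have hV := hU.symm h
  obtain ⟨⟨u₀, hu₀⟩, hu₀1⟩ := ne_bot_iff_exists_ne_one.1 hUh.ne_bot
  have hu₀1' : u₀ ≠ 1 := fun e => hu₀1 (Subtype.ext e)
  have hv₀ : ⁅y, u₀⁆ ∈ V := h.commutator_mem hy (hU.le hu₀)
  have hv₀1 : ⁅y, u₀⁆ ≠ 1 := fun e =>
    hyc (hU.centralizes h hy hu₀ hu₀1' (commutatorElement_eq_one_iff_mul_comm.1 e))
  obtain ⟨r, hr, hrv⟩ := hV.exists_commutator_left hUh hv₀ hv₀1 hu₀
  obtain ⟨k, hk⟩ := hU.conj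
  have hmeet : cj r V = cj y U := by
    rw [hk, cj_cj]
    refine h.ti' (w := y * u₀ * y⁻¹) ?_ ?_ (fun e => hu₀1' (conj_eq_one_iff.1 e))
    · have hc : r * ⁅y, u₀⁆ * r⁻¹ = y * u₀ * y⁻¹ := by
        calc r * ⁅y, u₀⁆ * r⁻¹ = ⁅r, ⁅y, u₀⁆⁆ * ⁅y, u₀⁆ := by simp [commutatorElement_def, mul_assoc]
          _ = u₀ * ⁅y, u₀⁆ := by rw [hrv]
          _ = ⁅y, u₀⁆ * u₀ := (hU.commute hu₀ hv₀).symm
          _ = y * u₀ * y⁻¹ := by simp [commutatorElement_def, mul_assoc]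
      rw [← hc]
      exact mem_cj_self hv₀
    · rw [← cj_cj, ← hk]
      exact mem_cj_self hu₀
  refine ⟨r, hr, hmeet, fun u hu => ?_⟩
  have hm : y * u * y⁻¹ ∈ cj r V := hmeet ▸ mem_cj_self hu
  obtain ⟨v, hv, hvr⟩ := hm
  have hrvU : ⁅r, v⁆ ∈ U := hUh.commutator_mem hr (hV.le hv)
  have e : ⁅y, u⁆ * u = v * ⁅r, v⁆ := by
    rw [hU.commute hrvU hv]
    calc ⁅y, u⁆ * u = y * u * y⁻¹ := by simp [commutatorElement_def, mul_assoc]
      _ = r * v * r⁻¹ := hvr.symm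
      _ = ⁅r, v⁆ * v := by simp [commutatorElement_def, mul_assoc]
  obtain ⟨e1, e2⟩ := hU.split_unique h (h.commutator_mem hy (hU.le hu)) hv hu hrvU e
  rw [e1, ← e2]

/-- The basic closure: `φ_p = φ_y φ_a⁻¹ φ_y`. -/
theorem Member.exists_triple (h : Hyp V) (hU : Member V U) {y a : G} (hy : y ∈ Pg V)
    (hyc : y ∉ centralizer (U : Set G)) (ha : a ∈ Pg V) (hac : a ∉ centralizer (U : Set G)) :
    ∃ p ∈ Pg V, ∀ x ∈ U, ∀ x' ∈ U, ⁅a, x'⁆ = ⁅y, x⁆ → ⁅p, x⁆ = ⁅y, x'⁆ := by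
  have hUh := hU.hyp h
  have hV := hU.symm h
  obtain ⟨r, hr, hmeet, hry⟩ := hU.exists_match h hy hyc
  have hz : r * a * r⁻¹ ∈ cj y (Pg U) := by
    rw [← Pg_cj, ← hmeet, Pg_cj]; exact mem_cj_self ha
  obtain ⟨b, hb, hab⟩ := hz
  have hab' : y * b * y⁻¹ = r * a * r⁻¹ := hab
  have hb_eq : ∀ v ∈ V, ⁅b, v⁆ = ⁅r, ⁅a, ⁅r, v⁆⁆⁆ := by
    intro v hv
    set u := ⁅r, v⁆ with hu'
    have hu : u ∈ U := hUh.commutator_mem hr (hV.le hv)
    set w := ⁅a, u⁆ with hw'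
    have hw : w ∈ V := h.commutator_mem ha (hU.le hu)
    set q := ⁅b, v⁆ with hq'
    have hq : q ∈ U := hUh.commutator_mem hb (hV.le hv)
    have hwv : w * v ∈ V := mul_mem hw hv
    have hru : r * u = u * r := Commute.eq (mem_centralizer'.1 hr.2 u hu).symm
    have e1 : (r * a * r⁻¹) * v * (r * a * r⁻¹)⁻¹ = (w * v) * (⁅r, w * v⁆ * u) := by
      have h1 : r⁻¹ * v * r = u * v := by
        calc r⁻¹ * v * r = ⁅r⁻¹, v⁆ * v := by simp [commutatorElement_def, mul_assoc]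
          _ = u * v := by rw [hV.comm_inv hUh hr hv]
      have h2 : a * (u * v) * a⁻¹ = (w * v) * u := by
        have hav : v * a⁻¹ = a⁻¹ * v := Pg_commute_V (inv_mem ha) hv
        calc a * (u * v) * a⁻¹ = a * u * (v * a⁻¹) := by group
          _ = (a * u * a⁻¹ * u⁻¹) * (u * v) := by rw [hav]; group
          _ = w * (u * v) := by rw [hw', commutatorElement_def]
          _ = (w * v) * u := by rw [← hU.commute hu hv, ← mul_assoc]
      have h3 : r * (w * v) * r⁻¹ = (w * v) * ⁅r, w * v⁆ := by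
        rw [hU.commute (hUh.commutator_mem hr (hV.le hwv)) hwv]
        simp [commutatorElement_def, mul_assoc]
      calc (r * a * r⁻¹) * v * (r * a * r⁻¹)⁻¹ = r * (a * (r⁻¹ * v * r) * a⁻¹) * r⁻¹ := by group
        _ = r * (w * v) * r⁻¹ * (r * u * r⁻¹) := by rw [h1, h2]; group
        _ = (w * v) * ⁅r, w * v⁆ * u := by rw [h3, hru, mul_inv_cancel_right]
        _ = _ := by rw [mul_assoc]
    have e2 : (y * b * y⁻¹) * v * (y * b * y⁻¹)⁻¹ = (⁅y, q⁆ * v) * q := by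
      have h1 : y⁻¹ * v * y = v := by rw [mul_assoc, Pg_commute_V hy hv, inv_mul_cancel_left]
      calc (y * b * y⁻¹) * v * (y * b * y⁻¹)⁻¹ = y * (b * (y⁻¹ * v * y) * b⁻¹) * y⁻¹ := by group
        _ = y * (q * v) * y⁻¹ := by rw [h1, hq']; simp [commutatorElement_def, mul_assoc]
        _ = (y * q * y⁻¹) * (y * v * y⁻¹) := by group
        _ = ⁅y, q⁆ * q * v := by
          rw [← Pg_commute_V hy hv]; simp [commutatorElement_def, mul_assoc]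
        _ = ⁅y, q⁆ * v * q := by rw [mul_assoc, ← hU.commute hq hv, mul_assoc]
    rw [hab', e1] at e2
    have hU' : ⁅r, w * v⁆ * u ∈ U := mul_mem (hUh.commutator_mem hr (hV.le hwv)) hu
    obtain ⟨-, e3⟩ := hU.split_unique h hwv (mul_mem (h.commutator_mem hy (hU.le hq)) hv) hU' hq e2
    rw [← e3, hUh.commutator_mul_right' (hV.le hw) (hV.le hv) hr, mul_assoc, hUh.sq u hu, mul_one]
  have hbc : b ∉ centralizer (V : Set G) := by
    intro hb'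
    obtain ⟨⟨u₀, hu₀⟩, hu₀1⟩ := ne_bot_iff_exists_ne_one.1 hUh.ne_bot
    have hu₀1' : u₀ ≠ 1 := fun e => hu₀1 (Subtype.ext e)
    have hv₀ : ⁅y, u₀⁆ ∈ V := h.commutator_mem hy (hU.le hu₀)
    have h1 : ⁅b, ⁅y, u₀⁆⁆ = 1 :=
      commutatorElement_eq_one_iff_mul_comm.2 (mem_centralizer'.1 hb' _ hv₀).symm
    rw [hb_eq _ hv₀, hry u₀ hu₀] at h1
    have hw : ⁅a, u₀⁆ ∈ V := h.commutator_mem ha (hU.le hu₀)
    by_cases hw1 : ⁅a, u₀⁆ = 1
    · exact hac (hU.centralizes h ha hu₀ hu₀1' (commutatorElement_eq_one_iff_mul_comm.1 hw1))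
    · have hrV := hV.centralizes hUh hr hw hw1 (commutatorElement_eq_one_iff_mul_comm.1 h1)
      have h2 := hry u₀ hu₀
      rw [commutatorElement_eq_one_iff_mul_comm.2 (mem_centralizer'.1 hrV _ hv₀).symm] at h2
      exact hu₀1' h2.symm
  obtain ⟨p, hp, -, hpb⟩ := hV.exists_match hUh hb hbc
  refine ⟨p, hp, fun x hx x' hx' hxx => ?_⟩
  have hv : ⁅y, x'⁆ ∈ V := h.commutator_mem hy (hU.le hx')
  have h1 := hpb _ hv
  rw [hb_eq _ hv, hry x' hx', hxx, hry x hx] at h1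
  exact h1

end Cfsg.Lib.TIPair
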