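import Cfsg.Agent.Lib.TIPair.Basic

/-!
The conjugates `U ≠ V` of `V` contained in `P`: partition of `V ⊔ U`.
-/

set_option autoImplicit false
set_option linter.style.haveILetI false

namespace Cfsg.Lib.TIPair

open Subgroup
open scoped commutatorElement

variable {G : Type*} [Group G] [Finite G] {V U : Subgroup G}

/-- A conjugate of `V`, other than `V`, inside `P`. -/
structure Member (V U : Subgroup G) : Prop where
  conj : ∃ g, U = cj g V
  ne : U ≠ V
  le : U ≤ Pg V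

theorem Member.hyp (hU : Member V U) (h : Hyp V) : Hyp U := by
  obtain ⟨g, rfl⟩ := hU.conj
  exact h.conjugate g

theorem Member.card_eq (hU : Member V U) : Nat.card ↥U = Nat.card ↥V := by
  obtain ⟨g, rfl⟩ := hU.conj
  exact card_map_of_injective (MulAut.conj g).injective

theorem Member.inter (h : Hyp V) (hU : Member V U) {z : G} (hzU : z ∈ U) (hzV : z ∈ V) : z = 1 := by
  obtain ⟨g, rfl⟩ := hU.conj
  rcases h.ti g with he | he
  · exact absurd he hU.ne
  · exact mem_bot.1 (he ▸ mem_inf.2 ⟨hzU, hzV⟩ : z ∈ (⊥ : Subgroup G))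

theorem Member.commute (hU : Member V U) {u v : G} (hu : u ∈ U) (hv : v ∈ V) : v * u = u * v :=
  Pg_commute_V (hU.le hu) hv

theorem Member.le_Mg (h : Hyp V) (hU : Member V U) : V ≤ Mg U := fun v hv =>
  centralizer_le_normalizer _ (mem_centralizer'.2 fun u hu => (hU.commute hu hv).symm)

theorem Member.centralizes (h : Hyp V) (hU : Member V U) {p u : G} (hp : p ∈ Pg V) (hu : u ∈ U) (hu1 : u ≠ 1)
    (hc : p * u = u * p) : p ∈ centralizer (U : Set G) := by
  have hUh := hU.hyp h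
  have hpN : p ∈ Mg U := by
    rcases hUh.ti p with he | he
    · exact mem_Mg_of_cj he
    · refine absurd ?_ hu1
      have hm : u ∈ cj p U ⊓ U := ⟨mem_cj.2 (by
        rw [show p⁻¹ * u * p = u by rw [mul_assoc, ← hc, inv_mul_cancel_left]]; exact hu), hu⟩
      rwa [he, mem_bot] at hm
  refine mem_centralizer'.2 fun u' hu' => ?_
  have h1 : ⁅p, u'⁆ ∈ U := by
    rw [commutatorElement_def]
    exact mul_mem ((mem_normalizer_iff.1 hpN u').1 hu') (inv_mem hu')
  exact (commutatorElement_eq_one_iff_mul_comm.1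
    (hU.inter h h1 (h.commutator_mem hp (hU.le hu')))).symm

theorem Member.conj_P (h : Hyp V) (hU : Member V U) {p : G} (hp : p ∈ Pg V) : Member V (cj p U) where
  conj := by obtain ⟨g, rfl⟩ := hU.conj; exact ⟨p * g, cj_cj p g V⟩
  ne := fun he => hU.ne (by
    have := congrArg (cj p⁻¹) he
    rw [cj_cj, inv_mul_cancel, cj_one, cj_of_mem_Mg (inv_mem (Pg_le_Mg V hp))] at this
    exact this)
  le := by
    intro z hz
    have := mem_cj.1 hz
    rw [show z = p * (p⁻¹ * z * p) * p⁻¹ by group]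
    exact Pg_conj_mem (Pg_le_Mg V hp) (hU.le this)

/-- A partner: a member not commuting with `U`. -/
theorem Member.exists_partner (h : Hyp V) (hU : Member V U) :
    ∃ Y, Member V Y ∧ ∀ y ∈ Y, y ∈ centralizer (U : Set G) → y = 1 := by
  by_contra hno
  push Not at hno
  have hcomm : ∀ Y, Member V Y → ∀ y ∈ Y, ∀ u ∈ U, y * u = u * y := by
    intro Y hY
    obtain ⟨y0, hy0, hy0c, hy01⟩ := hno Y hY
    intro y hy u hu
    have hu' : u ∈ centralizer (Y : Set G) :=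
      hY.centralizes h (hU.le hu) hy0 hy01 (mem_centralizer'.1 hy0c u hu)
    exact mem_centralizer'.1 hu' y hy
  let A : Subgroup G := Pg V ⊓ (⨅ Y : {Y : Subgroup G // Member V Y}, centralizer (Y.1 : Set G))
  let B : Subgroup G := ⨆ Y : {Y : Subgroup G // Member V Y}, Y.1
  have hBP : B ≤ Pg V := iSup_le fun Y => Y.2.le
  have hmove : ∀ {m : G}, m ∈ Mg V → ∀ Y, Member V Y → Member V (cj m Y) := by
    intro m hm Y hY
    refine ⟨?_, fun he => hY.ne ?_, ?_⟩
    · obtain ⟨g, rfl⟩ := hY.conj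
      exact ⟨m * g, cj_cj m g V⟩
    · have := congrArg (cj m⁻¹) he
      rwa [cj_cj, inv_mul_cancel, cj_one, cj_of_mem_Mg (inv_mem hm)] at this
    · intro z hz
      rw [show z = m * (m⁻¹ * z * m) * m⁻¹ by group]
      exact Pg_conj_mem hm (hY.le (mem_cj.1 hz))
  have hUA : U ≤ A := fun u hu => ⟨hU.le hu, mem_iInf.2 fun Y =>
    mem_centralizer'.2 fun y hy => hcomm Y.1 Y.2 y hy u hu⟩
  have hab : A ⊓ B ≤ V := by
    refine h.le_V_of_abelian (inf_le_left.trans (inf_le_left.trans (Pg_le_Mg V))) ?_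
      (inf_le_left.trans (inf_le_left.trans (Pg_le_centralizer V))) ?_
    · intro a ha b hb
      have hBc : B ≤ centralizer ({a} : Set G) := iSup_le fun Y y hy =>
        mem_centralizer_singleton_iff.2 (mem_centralizer'.1 (mem_iInf.1 ha.1.2 Y) y hy)
      exact (mem_centralizer_singleton_iff.1 (hBc hb.2)).symm
    · intro m hm a ha
      refine ⟨⟨Pg_conj_mem hm ha.1.1, mem_iInf.2 fun Y => mem_centralizer'.2 fun y hy => ?_⟩, ?_⟩
      · have hy' : m⁻¹ * y * m ∈ cj m⁻¹ Y.1 := mem_cj.2 (by simpa [mul_assoc] using hy)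
        have := mem_centralizer'.1 (mem_iInf.1 ha.1.2 ⟨_, hmove (inv_mem hm) Y.1 Y.2⟩) _ hy'
        calc y * (m * a * m⁻¹) = m * (m⁻¹ * y * m * a) * m⁻¹ := by group
          _ = m * (a * (m⁻¹ * y * m)) * m⁻¹ := by rw [this]
          _ = m * a * m⁻¹ * y := by group
      · have hB : B.map (MulAut.conj m).toMonoidHom ≤ B := by
          rw [Subgroup.map_iSup]
          exact iSup_le fun Y => le_iSup (fun Y : {Y : Subgroup G // Member V Y} => Y.1) ⟨_, hmove hm Y.1 Y.2⟩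
        exact hB (mem_map_of_mem _ ha.2)
  have hUV : U ≤ V := fun u hu => hab ⟨hUA hu, le_iSup (fun Y : {Y : Subgroup G // Member V Y} => Y.1) ⟨U, hU⟩ hu⟩
  exact (hU.hyp h).ne_bot ((Subgroup.eq_bot_iff_forall _).2 fun u hu => hU.inter h hu (hUV hu))

theorem Member.commutator_bijective (h : Hyp V) (hU : Member V U) {Y : Subgroup G} (hY : Member V Y)
    (hYc : ∀ y ∈ Y, y ∈ centralizer (U : Set G) → y = 1) {u : G} (hu : u ∈ U) (hu1 : u ≠ 1) :
    Function.Bijective (fun y : ↥Y =>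
      (⟨⁅(y : G), u⁆, h.commutator_mem (hY.le y.2) (hU.le hu)⟩ : ↥V)) := by
  refine (Nat.bijective_iff_injective_and_card _).2 ⟨fun a b hab => ?_, hY.card_eq⟩
  have hab' : ⁅(a : G), u⁆ = ⁅(b : G), u⁆ := congrArg Subtype.val hab
  refine Subtype.ext (inv_mul_eq_one.1 (hYc _ (mul_mem (inv_mem a.2) b.2)
    (hU.centralizes h (mul_mem (inv_mem (hY.le a.2)) (hY.le b.2)) hu hu1
      (commutatorElement_eq_one_iff_mul_comm.1 ?_))))
  rw [h.commutator_mul_left' (inv_mem (hY.le a.2)) (hY.le b.2) (hU.le hu), ← hab',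
    ← h.commutator_mul_left' (inv_mem (hY.le a.2)) (hY.le a.2) (hU.le hu), inv_mul_cancel,
    commutatorElement_one_left]

theorem Member.exists_commutator_left (h : Hyp V) (hU : Member V U) {u v : G} (hu : u ∈ U) (hu1 : u ≠ 1)
    (hv : v ∈ V) : ∃ p ∈ Pg V, ⁅p, u⁆ = v := by
  obtain ⟨Y, hY, hYc⟩ := hU.exists_partner h
  obtain ⟨y, hy⟩ := (hU.commutator_bijective h hY hYc hu hu1).2 ⟨v, hv⟩
  exact ⟨y, hY.le y.2, congrArg Subtype.val hy⟩

theorem Member.exists_commutator_right (h : Hyp V) (hU : Member V U) {p v : G} (hp : p ∈ Pg V)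
    (hpc : p ∉ centralizer (U : Set G)) (hv : v ∈ V) : ∃ u ∈ U, ⁅p, u⁆ = v := by
  have hinj : Function.Injective (fun u : ↥U => (⟨⁅p, (u : G)⁆, h.commutator_mem hp (hU.le u.2)⟩ : ↥V)) := by
    intro a b hab
    have hab' : ⁅p, (a : G)⁆ = ⁅p, (b : G)⁆ := congrArg Subtype.val hab
    by_contra hne
    refine hpc (hU.centralizes h hp (mul_mem (inv_mem a.2) b.2)
      (fun e => hne (Subtype.ext (inv_mul_eq_one.1 e))) (commutatorElement_eq_one_iff_mul_comm.1 ?_))
    rw [h.commutator_mul_right' (inv_mem (hU.le a.2)) (hU.le b.2) hp, ← hab',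
      ← h.commutator_mul_right' (inv_mem (hU.le a.2)) (hU.le a.2) hp, inv_mul_cancel,
      commutatorElement_one_right]
  obtain ⟨u, hu⟩ := ((Nat.bijective_iff_injective_and_card _).2 ⟨hinj, hU.card_eq⟩).2 ⟨v, hv⟩
  exact ⟨u, u.2, congrArg Subtype.val hu⟩

theorem Member.mem_sup (hU : Member V U) {w : G} (hw : w ∈ V ⊔ U) : ∃ v ∈ V, ∃ u ∈ U, v * u = w :=
  (Cfsg.Lib.Core.mem_sup_of_commute
    (commutator_eq_bot_iff'.2 fun _ hv _ hu => hU.commute hu hv)).1 hw

/-- Every element of `V ⊔ U` lies in `V` or in a `P`-conjugate of `U`. -/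
theorem Member.cover (h : Hyp V) (hU : Member V U) {w : G} (hw : w ∈ V ⊔ U) :
    w ∈ V ∨ ∃ p ∈ Pg V, w ∈ cj p U := by
  obtain ⟨v, hv, u, hu, rfl⟩ := hU.mem_sup hw
  by_cases hu1 : u = 1
  · left; simpa [hu1] using hv
  · obtain ⟨p, hp, hpu⟩ := hU.exists_commutator_left h hu hu1 hv
    exact Or.inr ⟨p, hp, ⟨u, hu, by rw [← hpu]; simp [commutatorElement_def, mul_assoc]⟩⟩

theorem Member.cj_le_sup (h : Hyp V) (hU : Member V U) {p : G} (hp : p ∈ Pg V) : cj p U ≤ V ⊔ U := by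
  rintro _ ⟨u, hu, rfl⟩
  show p * u * p⁻¹ ∈ V ⊔ U
  rw [show p * u * p⁻¹ = ⁅p, u⁆ * u by simp [commutatorElement_def, mul_assoc]]
  exact mul_mem (mem_sup_left (h.commutator_mem hp (hU.le hu))) (mem_sup_right hu)

theorem Member.le_normalizer_sup (h : Hyp V) (hU : Member V U) :
    Pg V ≤ normalizer ((V ⊔ U : Subgroup G) : Set G) := by
  have key : ∀ p ∈ Pg V, ∀ w ∈ V ⊔ U, p * w * p⁻¹ ∈ V ⊔ U := by
    intro p hp w hw
    have hle : (V ⊔ U).map (MulAut.conj p).toMonoidHom ≤ V ⊔ U := by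
      rw [Subgroup.map_sup]
      exact sup_le (by rw [show V.map (MulAut.conj p).toMonoidHom = V from cj_of_mem_Mg (Pg_le_Mg V hp)]
                       exact le_sup_left) (hU.cj_le_sup h hp)
    exact hle (mem_map_of_mem _ hw)
  intro p hp
  exact mem_normalizer_iff.2 fun w => ⟨key p hp w, fun hw => by
    simpa [mul_assoc] using key p⁻¹ (inv_mem hp) _ hw⟩

/-- A conjugate of `V` meeting `V ⊔ U` non-trivially is `V` or a `P`-conjugate of `U`. -/
theorem Member.eq_of_meets (h : Hyp V) (hU : Member V U) {g w : G} (hw : w ∈ cj g V) (hw' : w ∈ V ⊔ U)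
    (hw1 : w ≠ 1) : cj g V = V ∨ ∃ p ∈ Pg V, cj g V = cj p U := by
  rcases hU.cover h hw' with hv | ⟨p, hp, hwp⟩
  · left
    have := h.ti' (y := 1) hw (by rwa [cj_one]) hw1
    rwa [cj_one] at this
  · right
    obtain ⟨k, rfl⟩ := hU.conj
    rw [cj_cj] at hwp
    exact ⟨p, hp, by rw [cj_cj]; exact h.ti' hw hwp hw1⟩

/-- `P = Y * (P ∩ C(U))`. -/
theorem Member.decompose (h : Hyp V) (hU : Member V U) {Y : Subgroup G} (hY : Member V Y)
    (hYc : ∀ y ∈ Y, y ∈ centralizer (U : Set G) → y = 1) {p : G} (hp : p ∈ Pg V) :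
    ∃ y ∈ Y, ∃ c ∈ Pg V, c ∈ centralizer (U : Set G) ∧ p = y * c := by
  obtain ⟨⟨u, hu⟩, hu1⟩ := ne_bot_iff_exists_ne_one.1 (hU.hyp h).ne_bot
  have hu1' : u ≠ 1 := fun e => hu1 (Subtype.ext e)
  obtain ⟨y, hy⟩ := (hU.commutator_bijective h hY hYc hu hu1').2 ⟨⁅p, u⁆, h.commutator_mem hp (hU.le hu)⟩
  have hyu : ⁅(y : G), u⁆ = ⁅p, u⁆ := congrArg Subtype.val hy
  have hcP : (y : G)⁻¹ * p ∈ Pg V := mul_mem (inv_mem (hY.le y.2)) hp
  refine ⟨y, y.2, (y : G)⁻¹ * p, hcP, hU.centralizes h hcP hu hu1'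
    (commutatorElement_eq_one_iff_mul_comm.1 ?_), by group⟩
  rw [h.commutator_mul_left' (inv_mem (hY.le y.2)) hp (hU.le hu), ← hyu,
    ← h.commutator_mul_left' (inv_mem (hY.le y.2)) (hY.le y.2) (hU.le hu), inv_mul_cancel,
    commutatorElement_one_left]

theorem Member.partner_symm (h : Hyp V) (hU : Member V U) {Y : Subgroup G} (hY : Member V Y)
    (hYc : ∀ y ∈ Y, y ∈ centralizer (U : Set G) → y = 1) :
    ∀ u ∈ U, u ∈ centralizer (Y : Set G) → u = 1 := by
  intro u hu huc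
  by_contra hu1
  obtain ⟨⟨y, hy⟩, hy1⟩ := ne_bot_iff_exists_ne_one.1 (hY.hyp h).ne_bot
  exact hy1 (Subtype.ext (hYc y hy (hU.centralizes h (hY.le hy) hu hu1 (mem_centralizer'.1 huc y hy))))

end Cfsg.Lib.TIPair
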