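import Cfsg.Agent.Lib.TIPair.Field
import Cfsg.Agent.Lib.Linear.DicksonTwo

/-!
The group generated by `P` and a conjugate induces `SL₂(q)` on `V ⊔ U`.
-/

set_option autoImplicit false
set_option linter.style.haveILetI false

namespace Cfsg.Lib.TIPair

open Subgroup
open scoped commutatorElement MatrixGroups

/-- A family of endomorphisms with the Jordan division closure is commutative. -/
theorem commute_of_jordan {A : Type*} [AddCommGroup A] [Finite A] (hA : ∀ x : A, x + x = 0)
    (S : AddSubgroup (AddMonoid.End A)) (h1 : (1 : AddMonoid.End A) ∈ S)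
    (hu : ∀ f ∈ S, f ≠ 0 → Function.Bijective f) (hU : ∀ f ∈ S, ∀ k ∈ S, f * k * f ∈ S) :
    ∀ f ∈ S, ∀ k ∈ S, f * k = k * f := by
  haveI : Module (ZMod 2) A := AddCommGroup.zmodModule (fun x => by rw [two_nsmul]; exact hA x)
  haveI : Module.Finite (ZMod 2) A := Module.Finite.of_finite
  let b := Module.finBasis (ZMod 2) A
  let φ := LinearMap.toMatrixAlgEquiv b
  let toA : Module.End (ZMod 2) A →+* AddMonoid.End A :=
    { toFun := fun f => f.toAddMonoidHom
      map_one' := rfl
      map_mul' := fun _ _ => rfl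
      map_zero' := rfl
      map_add' := fun _ _ => rfl }
  have hinj : Function.Injective toA := fun f k hfk => LinearMap.ext fun x => DFunLike.congr_fun hfk x
  let T : Submodule (ZMod 2) (Matrix (Fin (Module.finrank (ZMod 2) A)) (Fin (Module.finrank (ZMod 2) A)) (ZMod 2)) :=
    { carrier := {M | toA (φ.symm M) ∈ S}
      zero_mem' := by simp
      add_mem' := fun {M N} hM hN => by
        simp only [Set.mem_ofPred_eq, map_add] at hM hN ⊢
        exact add_mem hM hN
      smul_mem' := fun c M hM => by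
        have hc : c = 0 ∨ c = 1 := by revert c; decide
        rcases hc with rfl | rfl
        · simp
        · simpa using hM }
  have hT : Cfsg.Lib.JordanDivision.IsJordanDivision T := by
    refine ⟨?_, fun M hM hM0 => ?_, fun M hM N hN => ?_⟩
    · show toA (φ.symm 1) ∈ S
      rw [map_one, map_one]; exact h1
    · have hne : toA (φ.symm M) ≠ 0 := fun e => hM0 (by
        have := hinj (e.trans (map_zero toA).symm)
        simpa using congrArg φ this)
      have hbij : IsUnit (φ.symm M) := (Module.End.isUnit_iff _).2 (hu _ hM hne)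
      simpa using hbij.map φ
    · show toA (φ.symm (M * N * M)) ∈ S
      rw [map_mul, map_mul, map_mul, map_mul]
      exact hU _ hM _ hN
  intro f hf k hk
  let lift : AddMonoid.End A → Module.End (ZMod 2) A := fun f => AddMonoidHom.toZModLinearMap 2 f
  have hlift : ∀ f, toA (lift f) = f := fun f => DFunLike.ext _ _ fun x => rfl
  have hmem : ∀ f ∈ S, φ (lift f) ∈ T := fun f hf => by
    show toA (φ.symm (φ (lift f))) ∈ S
    rw [AlgEquiv.symm_apply_apply, hlift]; exact hf
  have h := Cfsg.Lib.JordanDivision.commute_of_isJordanDivision hT _ (hmem f hf) _ (hmem k hk)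
  rw [← map_mul, ← map_mul] at h
  have h' := congrArg toA (φ.injective h)
  rwa [map_mul, map_mul, hlift, hlift] at h'

variable {G : Type*} [Group G] [Finite G] {V U : Subgroup G}

theorem exists_quotient_iso (h : Hyp V) (hU : Member V U) :
    ∀ hN : ((centralizer ((V ⊔ U : Subgroup G) : Set G)).subgroupOf (Pg V ⊔ Pg U)).Normal,
      ∃ (F : Type) (_ : Field F) (_ : Fintype F), Fintype.card F = Nat.card ↥V ∧
        Nonempty (↥(Pg V ⊔ Pg U) ⧸ (centralizer ((V ⊔ U : Subgroup G) : Set G)).subgroupOf (Pg V ⊔ Pg U) ≃*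
          Matrix.SpecialLinearGroup (Fin 2) F) := by
  classical
  intro hN
  haveI : Fact (Nat.Prime 2) := ⟨Nat.prime_two⟩
  have hUh := hU.hyp h
  have hV := hU.symm h
  obtain ⟨⟨u₀, hu₀⟩, hu₀1⟩ := ne_bot_iff_exists_ne_one.1 hUh.ne_bot
  have hu₀1' : u₀ ≠ 1 := fun e => hu₀1 (Subtype.ext e)
  obtain ⟨⟨v₀, hv₀⟩, hv₀1⟩ := ne_bot_iff_exists_ne_one.1 h.ne_bot
  have hv₀1' : v₀ ≠ 1 := fun e => hv₀1 (Subtype.ext e)
  obtain ⟨p₀, hp₀, hp₀u⟩ := hU.exists_commutator_left h hu₀ hu₀1' hv₀
  have hp₀c : p₀ ∉ centralizer (U : Set G) := fun hc => hv₀1' (by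
    rw [← hp₀u, commutatorElement_eq_one_iff_mul_comm]; exact (mem_centralizer'.1 hc u₀ hu₀).symm)
  letI : CommGroup ↥V := { (inferInstance : Group ↥V) with
    mul_comm := fun a b => Subtype.ext (h.comm a a.2 b b.2) }
  let A := Additive ↥V
  -- the inverse of `u ↦ ⁅p₀, u⁆`
  have hs : ∀ v : A, ∃ u ∈ U, ⁅p₀, u⁆ = ((Additive.toMul v : ↥V) : G) := fun v =>
    hU.exists_commutator_right h hp₀ hp₀c (Additive.toMul v).2
  choose s hsU hs0 using hs
  have hs_inj : ∀ {p : G}, p ∈ Pg V → p ∉ centralizer (U : Set G) → ∀ u ∈ U, ∀ u' ∈ U,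
      ⁅p, u⁆ = ⁅p, u'⁆ → u = u' := by
    intro p hp hpc u hu u' hu' he
    by_contra hne
    refine hpc (hU.centralizes h hp (mul_mem (inv_mem hu) hu') (fun e => hne (inv_mul_eq_one.1 e))
      (commutatorElement_eq_one_iff_mul_comm.1 ?_))
    rw [h.commutator_mul_right' (inv_mem (hU.le hu)) (hU.le hu') hp, ← he,
      ← h.commutator_mul_right' (inv_mem (hU.le hu)) (hU.le hu) hp, inv_mul_cancel, commutatorElement_one_right]
  have hs_add : ∀ x y, s (x + y) = s x * s y := fun x y =>
    hs_inj hp₀ hp₀c _ (hsU _) _ (mul_mem (hsU x) (hsU y)) (by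
      rw [hs0, h.commutator_mul_right' (hU.le (hsU x)) (hU.le (hsU y)) hp₀, hs0, hs0]; rfl)
  let val : A → G := fun x => ((Additive.toMul x : ↥V) : G)
  have val_mem : ∀ x, val x ∈ V := fun x => (Additive.toMul x).2
  have val_add : ∀ x y, val (x + y) = val x * val y := fun _ _ => rfl
  have val_inj : Function.Injective val := fun x y e => Additive.toMul.injective (Subtype.ext e)
  obtain ⟨φ, hφval⟩ : ∃ φ : (p : G) → p ∈ Pg V → AddMonoid.End A,
      ∀ (p : G) (hp : p ∈ Pg V) (x : A), val (φ p hp x) = ⁅p, s x⁆ :=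
    ⟨fun p hp => AddMonoidHom.mk' (fun x => Additive.ofMul ⟨⁅p, s x⁆, h.commutator_mem hp (hU.le (hsU x))⟩)
      fun x y => val_inj (by
        show ⁅p, s (x + y)⁆ = ⁅p, s x⁆ * ⁅p, s y⁆
        rw [hs_add, h.commutator_mul_right' (hU.le (hsU x)) (hU.le (hsU y)) hp]), fun _ _ _ => rfl⟩
  have hA2 : ∀ x : A, x + x = 0 := fun x => val_inj (h.sq _ (val_mem x))
  let S : AddSubgroup (AddMonoid.End A) :=
    { carrier := {f | ∃ p : G, ∃ hp : p ∈ Pg V, f = φ p hp}
      zero_mem' := ⟨1, one_mem _, DFunLike.ext _ _ fun x => val_inj (by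
        rw [hφval 1 (one_mem _) x, commutatorElement_one_left]; rfl)⟩
      add_mem' := by
        rintro _ _ ⟨p, hp, rfl⟩ ⟨q, hq, rfl⟩
        exact ⟨p * q, mul_mem hp hq, DFunLike.ext _ _ fun x => val_inj (by
          rw [hφval (p * q) (mul_mem hp hq) x, h.commutator_mul_left' hp hq (hU.le (hsU x)), ← hφval p hp x, ← hφval q hq x]
          exact val_add _ _)⟩
      neg_mem' := by
        rintro _ ⟨p, hp, rfl⟩
        refine ⟨p, hp, DFunLike.ext _ _ fun x => ?_⟩
        show -(φ p hp x) = φ p hp x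
        exact neg_eq_of_add_eq_zero_left (hA2 _) }
  have hφ1 : φ p₀ hp₀ = 1 := DFunLike.ext _ _ fun x => val_inj (by rw [hφval p₀ hp₀ x, hs0]; rfl)
  have h1S : (1 : AddMonoid.End A) ∈ S := ⟨p₀, hp₀, hφ1.symm⟩
  have hφc : ∀ p hp, φ p hp ≠ 0 → p ∉ centralizer (U : Set G) := by
    intro p hp hne hc
    exact hne (DFunLike.ext _ _ fun x => val_inj (by
      rw [hφval p hp x, commutatorElement_eq_one_iff_mul_comm.2 (mem_centralizer'.1 hc _ (hsU x)).symm]; rfl))
  have hbij : ∀ f ∈ S, f ≠ 0 → Function.Bijective f := by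
    rintro f ⟨p, hp, rfl⟩ hne
    refine Finite.injective_iff_bijective.1 fun x y e => ?_
    have e' := congrArg val e
    rw [hφval p hp, hφval p hp] at e'
    have he := hs_inj hp (hφc p hp hne) _ (hsU x) _ (hsU y) e'
    exact val_inj (by show ((Additive.toMul x : ↥V) : G) = _; rw [← hs0, he, hs0])
  have htriple : ∀ f ∈ S, ∀ k ∈ S, f ≠ 0 → k ≠ 0 → ∀ k', k * k' = 1 → f * k' * f ∈ S := by
    rintro f ⟨y, hy, rfl⟩ k ⟨a, ha, rfl⟩ hf hk k' hkk
    obtain ⟨p, hp, hpq⟩ := hU.exists_triple h hy (hφc y hy hf) ha (hφc a ha hk)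
    refine ⟨p, hp, DFunLike.ext _ _ fun x => val_inj ?_⟩
    have h1 : φ a ha (k' (φ y hy x)) = φ y hy x := DFunLike.congr_fun hkk (φ y hy x)
    have h1' := congrArg val h1
    rw [hφval a ha, hφval y hy] at h1'
    rw [hφval p hp x, hpq _ (hsU x) _ (hsU (k' (φ y hy x))) h1', ← hφval y hy]
    rfl
  have hinvS : ∀ k ∈ S, k ≠ 0 → ∀ k', k * k' = 1 → k' ∈ S := by
    intro k hk hk0 k' hkk
    have h10 : (1 : AddMonoid.End A) ≠ 0 := fun e => hk0 (by rw [← mul_one k, e, mul_zero])
    have := htriple 1 h1S k hk h10 hk0 k' hkk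
    rwa [one_mul, mul_one] at this
  have hexinv : ∀ k ∈ S, k ≠ 0 → ∃ k', k * k' = 1 ∧ k' * k = 1 := by
    intro k hk hk0
    let e := AddEquiv.ofBijective k (hbij k hk hk0)
    exact ⟨e.symm.toAddMonoidHom, DFunLike.ext _ _ fun x => e.apply_symm_apply x,
      DFunLike.ext _ _ fun x => e.symm_apply_apply x⟩
  have hUS : ∀ f ∈ S, ∀ k ∈ S, f * k * f ∈ S := by
    intro f hf k hk
    by_cases hf0 : f = 0
    · simp [hf0]
    by_cases hk0 : k = 0
    · simp [hk0]
    obtain ⟨k', hk1, hk2⟩ := hexinv k hk hk0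
    have hk'0 : k' ≠ 0 := fun e => hk0 (by rw [← mul_one k, ← hk1, e, mul_zero, mul_zero])
    exact htriple f hf k' (hinvS k hk hk0 k' hk1) hf0 hk'0 k hk2
  have hcomm := commute_of_jordan hA2 S h1S hbij hUS
  have hadd2 : ∀ f : AddMonoid.End A, f + f = 0 := fun f => DFunLike.ext _ _ fun x => hA2 (f x)
  have hsq : ∀ f ∈ S, f * f ∈ S := fun f hf => by simpa using hUS f hf 1 h1S
  have hmul : ∀ f ∈ S, ∀ k ∈ S, f * k ∈ S := by
    intro f hf k hk
    have hinj : Function.Injective (fun f : ↥S => (⟨f.1 * f.1, hsq f.1 f.2⟩ : ↥S)) := by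
      intro x y e
      have e' : x.1 * x.1 = y.1 * y.1 := congrArg Subtype.val e
      refine Subtype.ext ?_
      by_contra hne
      have hd : x.1 + y.1 ≠ 0 := fun hz => hne (by
        calc x.1 = x.1 + (y.1 + y.1) := by rw [hadd2, add_zero]
          _ = y.1 := by rw [← add_assoc, hz, zero_add])
      obtain ⟨d', hd1, -⟩ := hexinv _ (add_mem x.2 y.2) hd
      have hz : (x.1 + y.1) * (x.1 + y.1) = 0 := by
        rw [add_mul, mul_add, mul_add, hcomm y.1 y.2 x.1 x.2, e', add_assoc, ← add_assoc (x.1 * y.1),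
          hadd2, zero_add, hadd2]
      exact hd (by rw [← mul_one (x.1 + y.1), ← hd1, ← mul_assoc, hz, zero_mul])
    haveI : Finite (AddMonoid.End A) := DFunLike.finite _
    obtain ⟨⟨z, hz⟩, hzf⟩ := Finite.injective_iff_surjective.1 hinj ⟨f, hf⟩
    have hzf' : z * z = f := congrArg Subtype.val hzf
    rw [← hzf', mul_assoc, hcomm z hz k hk, ← mul_assoc]
    exact hUS z hz k hk
  let K : Subring (AddMonoid.End A) :=
    { S with one_mem' := h1S, mul_mem' := fun {f k} hf hk => hmul f hf k hk }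
  haveI : Finite (AddMonoid.End A) := DFunLike.finite _
  letI : CommRing ↥K := { (inferInstance : Ring ↥K) with
    mul_comm := fun f k => Subtype.ext (hcomm f.1 f.2 k.1 k.2) }
  have h01 : (0 : AddMonoid.End A) ≠ 1 := fun e => by
    have := congrArg val (DFunLike.congr_fun e (Additive.ofMul (⟨v₀, hv₀⟩ : ↥V)))
    exact hv₀1' this.symm
  haveI : Nontrivial ↥K := ⟨0, 1, fun e => h01 (congrArg Subtype.val e)⟩
  haveI : NoZeroDivisors ↥K := ⟨fun {f k} e => by
    by_cases hf : f = 0
    · exact Or.inl hf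
    · obtain ⟨f', -, hf'⟩ := hexinv f.1 f.2 fun e' => hf (Subtype.ext e')
      refine Or.inr (Subtype.ext ?_)
      have e' : f.1 * k.1 = 0 := congrArg Subtype.val e
      show k.1 = 0
      rw [← one_mul k.1, ← hf', mul_assoc, e', mul_zero]⟩
  haveI : IsDomain ↥K := NoZeroDivisors.to_isDomain _
  haveI : Fintype ↥K := Fintype.ofFinite _
  letI : Field ↥K := Fintype.fieldOfDomain _
  -- the order
  have hcardK : Fintype.card ↥K = Nat.card ↥V := by
    rw [← Nat.card_eq_fintype_card]
    refine Nat.card_congr (Equiv.ofBijective (fun f : ↥K => Additive.toMul (f.1 (Additive.ofMul ⟨v₀, hv₀⟩))) ⟨?_, ?_⟩)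
    · intro f k e
      refine Subtype.ext ?_
      by_contra hne
      have hd : f.1 + k.1 ≠ 0 := fun hz => hne (by
        calc f.1 = f.1 + (k.1 + k.1) := by rw [hadd2, add_zero]
          _ = k.1 := by rw [← add_assoc, hz, zero_add])
      have h2 : (f.1 + k.1) (Additive.ofMul ⟨v₀, hv₀⟩) = (f.1 + k.1) 0 := by
        rw [map_zero]
        show f.1 _ + k.1 _ = 0
        rw [Additive.toMul.injective e]
        exact hA2 _
      have h3 := (hbij _ (add_mem f.2 k.2) hd).1 h2
      exact hv₀1' (congrArg val h3)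
    · intro v
      have hsu : s (Additive.ofMul ⟨v₀, hv₀⟩) = u₀ := hs_inj hp₀ hp₀c _ (hsU _) _ hu₀ (by
        rw [hs0, hp₀u]; rfl)
      obtain ⟨p, hp, hpu⟩ := hU.exists_commutator_left h hu₀ hu₀1' v.2
      refine ⟨⟨φ p hp, p, hp, rfl⟩, Subtype.ext ?_⟩
      show val (φ p hp (Additive.ofMul ⟨v₀, hv₀⟩)) = (v : G)
      rw [hφval p hp, hsu, hpu]
  obtain ⟨n, hn⟩ : ∃ n, Nat.card ↥V = 2 ^ n :=
    IsPGroup.iff_card.1 ((isPGroup_Qg V).to_le h.V_le_Qg)
  have hn0 : n ≠ 0 := by
    intro e
    rw [e, pow_zero] at hn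
    exact h.ne_bot (Subgroup.eq_bot_of_card_eq V hn)
  let F := GaloisField 2 n
  haveI : Fintype F := Fintype.ofFinite _
  have hcardF : Fintype.card F = Nat.card ↥V := by
    rw [← Nat.card_eq_fintype_card, GaloisField.card 2 n hn0, hn]
  let θ : F ≃+* ↥K := FiniteField.ringEquivOfCardEq (hcardF.trans hcardK.symm)
  refine ⟨F, inferInstance, inferInstance, hcardF, ?_⟩
  -- coordinates
  let coe : F → AddMonoid.End A := fun a => (θ a).1
  have coe_add : ∀ a b, coe (a + b) = coe a + coe b := fun a b => by simp [coe]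
  have coe_mul : ∀ a b, coe (a * b) = coe a * coe b := fun a b => by simp [coe]
  have coe_one : coe 1 = 1 := by simp [coe]
  have coe_zero : coe 0 = 0 := by simp [coe]
  let ε : A × A → ↥(V ⊔ U) := fun z =>
    ⟨val z.1 * s z.2, mul_mem (mem_sup_left (val_mem _)) (mem_sup_right (hsU _))⟩
  have hε : Function.Bijective ε := by
    constructor
    · intro z z' e
      obtain ⟨e1, e2⟩ := hU.split_unique h (val_mem _) (val_mem _) (hsU _) (hsU _) (congrArg Subtype.val e)
      refine Prod.ext (val_inj e1) (val_inj ?_)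
      show ((Additive.toMul z.2 : ↥V) : G) = _
      rw [← hs0, e2, hs0]
    · rintro ⟨w, hw⟩
      obtain ⟨v, hv, u, hu, rfl⟩ := hU.mem_sup hw
      refine ⟨(Additive.ofMul ⟨v, hv⟩, Additive.ofMul ⟨⁅p₀, u⁆, h.commutator_mem hp₀ (hU.le hu)⟩), Subtype.ext ?_⟩
      show v * s _ = v * u
      rw [hs_inj hp₀ hp₀c _ (hsU _) u hu (by rw [hs0]; rfl)]
  let εe := Equiv.ofBijective ε hε
  set H := Pg V ⊔ Pg U with hH
  have hHN : H ≤ normalizer ((V ⊔ U : Subgroup G) : Set G) := by
    refine sup_le (hU.le_normalizer_sup h) ?_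
    rw [sup_comm V U]
    exact hV.le_normalizer_sup hUh
  let cW : ↥H → ↥(V ⊔ U) → ↥(V ⊔ U) := fun g w =>
    ⟨(g : G) * w * (g : G)⁻¹, (mem_normalizer_iff.1 (hHN g.2) _).1 w.2⟩
  have cW_mul : ∀ g g' w, cW (g * g') w = cW g (cW g' w) := fun g g' w => Subtype.ext (by
    show ((g * g' : ↥H) : G) * (w : G) * ((g * g' : ↥H) : G)⁻¹ = (g : G) * ((g' : G) * w * (g' : G)⁻¹) * (g : G)⁻¹
    simp [mul_assoc])
  have cW_one : ∀ w, cW 1 w = w := fun w => Subtype.ext (by simp [cW])
  let pW : ↥H → Equiv.Perm ↥(V ⊔ U) := fun g =>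
    { toFun := cW g
      invFun := cW g⁻¹
      left_inv := fun w => by rw [← cW_mul, inv_mul_cancel, cW_one]
      right_inv := fun w => by rw [← cW_mul, mul_inv_cancel, cW_one] }
  let μ : ↥H →* Equiv.Perm (A × A) :=
    MonoidHom.mk' (fun g => (εe.trans (pW g)).trans εe.symm) fun g g' => Equiv.ext fun z => by
      show εe.symm (cW (g * g') (εe z)) = εe.symm (cW g (εe (εe.symm (cW g' (εe z)))))
      rw [Equiv.apply_symm_apply, cW_mul]
  let act : SL(2, F) → A × A → A × A := fun M z =>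
    (coe ((M : Matrix (Fin 2) (Fin 2) F) 0 0) z.1 + coe ((M : Matrix (Fin 2) (Fin 2) F) 0 1) z.2,
      coe ((M : Matrix (Fin 2) (Fin 2) F) 1 0) z.1 + coe ((M : Matrix (Fin 2) (Fin 2) F) 1 1) z.2)
  have act_mul : ∀ M N z, act (M * N) z = act M (act N z) := by
    intro M N z
    simp only [act, Cfsg.Lib.Linear.Dickson.mul_apply', coe_add, coe_mul]
    refine Prod.ext ?_ ?_
    · show (coe _ * coe _) z.1 + (coe _ * coe _) z.1 + ((coe _ * coe _) z.2 + (coe _ * coe _) z.2) = _
      simp only [AddMonoid.End.coe_mul, Function.comp_apply, map_add]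
      abel
    · show (coe _ * coe _) z.1 + (coe _ * coe _) z.1 + ((coe _ * coe _) z.2 + (coe _ * coe _) z.2) = _
      simp only [AddMonoid.End.coe_mul, Function.comp_apply, map_add]
      abel
  have act_one : ∀ z, act 1 z = z := fun z => by
    simp [act, coe_one, coe_zero]
  let pA : SL(2, F) → Equiv.Perm (A × A) := fun M =>
    { toFun := act M
      invFun := act M⁻¹
      left_inv := fun z => by rw [← act_mul, inv_mul_cancel, act_one]
      right_inv := fun z => by rw [← act_mul, mul_inv_cancel, act_one] }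
  let η : SL(2, F) →* Equiv.Perm (A × A) := MonoidHom.mk' pA fun M N => Equiv.ext fun z => act_mul M N z
  have hηinj : Function.Injective η := by
    intro M N e
    have e' : ∀ z, act M z = act N z := fun z => congrArg (fun π : Equiv.Perm (A × A) => π z) e
    have key : ∀ {a b : F}, (∀ x, coe a x = coe b x) → a = b := fun hab =>
      θ.injective (Subtype.ext (DFunLike.ext _ _ hab))
    apply Cfsg.Lib.Linear.Dickson.ext_two
    · exact key fun x => by simpa [act] using congrArg Prod.fst (e' (x, 0))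
    · exact key fun x => by simpa [act] using congrArg Prod.fst (e' (0, x))
    · exact key fun x => by simpa [act] using congrArg Prod.snd (e' (x, 0))
    · exact key fun x => by simpa [act] using congrArg Prod.snd (e' (0, x))
  have hupper : ∀ (p : G) (hp : p ∈ Pg V) (a : F), coe a = φ p hp →
      μ ⟨p, mem_sup_left hp⟩ = η (Cfsg.Lib.Linear.Dickson.tU a) := by
    intro p hp a ha
    refine Equiv.ext fun z => εe.symm_apply_eq.2 (Subtype.ext ?_)
    show p * (val z.1 * s z.2) * p⁻¹ = val (act (Cfsg.Lib.Linear.Dickson.tU a) z).1 * s (act (Cfsg.Lib.Linear.Dickson.tU a) z).2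
    simp only [act, Cfsg.Lib.Linear.Dickson.tU_coe, Matrix.of_apply, Matrix.cons_val', Matrix.cons_val_zero,
      Matrix.cons_val_one, Matrix.cons_val_fin_one, coe_one, coe_zero, ha]
    show _ = val (z.1 + φ p hp z.2) * s (0 + z.2)
    rw [zero_add, val_add, hφval p hp]
    calc p * (val z.1 * s z.2) * p⁻¹ = (p * val z.1 * p⁻¹) * (p * s z.2 * p⁻¹) := by group
      _ = val z.1 * ⁅p, s z.2⁆ * s z.2 := by
        rw [← Pg_commute_V hp (val_mem z.1)]; simp [commutatorElement_def, mul_assoc]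
  have hlower : ∀ (r : G) (hr : r ∈ Pg U) (a : F),
      (∀ x, val (coe a x) = ⁅p₀, ⁅r, val x⁆⁆) →
      μ ⟨r, mem_sup_right hr⟩ = η (Cfsg.Lib.Linear.Dickson.tL a) := by
    intro r hr a ha
    refine Equiv.ext fun z => εe.symm_apply_eq.2 (Subtype.ext ?_)
    show r * (val z.1 * s z.2) * r⁻¹ = val (act (Cfsg.Lib.Linear.Dickson.tL a) z).1 * s (act (Cfsg.Lib.Linear.Dickson.tL a) z).2
    simp only [act, Cfsg.Lib.Linear.Dickson.tL_coe, Matrix.of_apply, Matrix.cons_val', Matrix.cons_val_zero,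
      Matrix.cons_val_one, Matrix.cons_val_fin_one, coe_one, coe_zero]
    show _ = val (z.1 + 0) * s (coe a z.1 + z.2)
    have hru : ⁅r, val z.1⁆ ∈ U := hUh.commutator_mem hr (hV.le (val_mem _))
    have hsa : s (coe a z.1) = ⁅r, val z.1⁆ := hs_inj hp₀ hp₀c _ (hsU _) _ hru (by rw [hs0]; exact ha z.1)
    have hrs : r * s z.2 = s z.2 * r := (mem_centralizer'.1 hr.2 _ (hsU z.2)).symm
    rw [add_zero, hs_add, hsa]
    calc r * (val z.1 * s z.2) * r⁻¹ = (r * val z.1 * r⁻¹) * (r * s z.2 * r⁻¹) := by group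
      _ = (⁅r, val z.1⁆ * val z.1) * s z.2 := by
        rw [hrs, mul_inv_cancel_right]; simp [commutatorElement_def, mul_assoc]
      _ = val z.1 * (⁅r, val z.1⁆ * s z.2) := by rw [← hU.commute hru (val_mem z.1), mul_assoc]
  -- the range
  have hrange : μ.range = η.range := by
    apply le_antisymm
    · rw [MonoidHom.range_eq_map, map_le_iff_le_comap]
      intro x _
      have hx : (x : G) ∈ (η.range.comap μ).map H.subtype := by
        refine (sup_le ?_ ?_ : H ≤ _) x.2
        · intro p hp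
          refine ⟨⟨p, mem_sup_left hp⟩, ⟨Cfsg.Lib.Linear.Dickson.tU (θ.symm ⟨φ p hp, p, hp, rfl⟩), ?_⟩, rfl⟩
          exact (hupper p hp _ (by simp [coe])).symm
        · intro r hr
          refine ⟨⟨r, mem_sup_right hr⟩, ?_, rfl⟩
          by_cases hrc : r ∈ centralizer (V : Set G)
          · refine ⟨Cfsg.Lib.Linear.Dickson.tL 0, (hlower r hr 0 fun x => ?_).symm⟩
            rw [coe_zero, commutatorElement_eq_one_iff_mul_comm.2 (mem_centralizer'.1 hrc _ (val_mem x)).symm,
              commutatorElement_one_right]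
            rfl
          · obtain ⟨p, hp, -, hpr⟩ := hV.exists_match hUh hr hrc
            have hpne : φ p hp ≠ 0 := by
              intro e
              obtain ⟨u, hu, hru⟩ : ∃ u ∈ U, ⁅r, v₀⁆ = u := ⟨_, hUh.commutator_mem hr (hV.le hv₀), rfl⟩
              have h1 := hpr v₀ hv₀
              rw [hru] at h1
              obtain ⟨x, hx⟩ : ∃ x, s x = u := ⟨Additive.ofMul ⟨⁅p₀, u⁆, h.commutator_mem hp₀ (hU.le hu)⟩,
                hs_inj hp₀ hp₀c _ (hsU _) u hu (by rw [hs0]; rfl)⟩
              have := congrArg val (DFunLike.congr_fun e x)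
              rw [hφval p hp, hx, h1] at this
              exact hv₀1' this
            obtain ⟨k', hk1, hk2⟩ := hexinv _ ⟨p, hp, rfl⟩ hpne
            refine ⟨Cfsg.Lib.Linear.Dickson.tL (θ.symm ⟨k', hinvS _ ⟨p, hp, rfl⟩ hpne k' hk1⟩), (hlower r hr _ fun x => ?_).symm⟩
            simp only [coe, RingEquiv.apply_symm_apply]
            have hu : ⁅r, val x⁆ ∈ U := hUh.commutator_mem hr (hV.le (val_mem x))
            obtain ⟨z, hz⟩ : ∃ z, val z = ⁅p₀, ⁅r, val x⁆⁆ :=
              ⟨Additive.ofMul ⟨_, h.commutator_mem hp₀ (hU.le hu)⟩, rfl⟩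
            have hsz : s z = ⁅r, val x⁆ := hs_inj hp₀ hp₀c _ (hsU _) _ hu (by rw [hs0]; exact hz)
            have hzx : φ p hp z = x := val_inj (by rw [hφval p hp, hsz]; exact hpr _ (val_mem x))
            rw [← hz]
            congr 1
            rw [← hzx]
            exact DFunLike.congr_fun hk2 z
      obtain ⟨x', hx', he⟩ := hx
      rwa [Subtype.ext he] at hx'
    · rw [MonoidHom.range_eq_map, ← Cfsg.Lib.Linear.closure_transvection_eq_top, MonoidHom.map_closure,
        closure_le]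
      rintro _ ⟨_, ⟨i, j, hij, c, rfl⟩, rfl⟩
      fin_cases i <;> fin_cases j
      · exact absurd rfl hij
      · obtain ⟨p, hp, hpc⟩ := (θ c).2
        refine ⟨⟨p, mem_sup_left hp⟩, ?_⟩
        rw [hupper p hp c hpc]
        congr 1
        apply Cfsg.Lib.Linear.Dickson.ext_two <;>
          simp [Cfsg.Lib.Linear.Dickson.tU_coe, Matrix.SpecialLinearGroup.transvection, Matrix.transvection,
            Matrix.single]
      · have hlowc : ∀ c : F, η (Cfsg.Lib.Linear.Dickson.tL c) ∈ μ.range := by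
          intro c
          by_cases hc : c = 0
          · rw [hc, Cfsg.Lib.Linear.Dickson.tL_zero, map_one]; exact one_mem _
          · obtain ⟨y, hy, hyc⟩ := (θ c⁻¹).2
            have hy0 : φ y hy ≠ 0 := by
              intro e
              exact inv_ne_zero hc (θ.injective (Subtype.ext (by rw [hyc, e, map_zero]; rfl)))
            obtain ⟨r, hr, -, hry⟩ := hU.exists_match h hy (hφc y hy hy0)
            refine ⟨⟨r, mem_sup_right hr⟩, hlower r hr c fun x => ?_⟩
            obtain ⟨x', rfl⟩ := (hbij _ ⟨y, hy, rfl⟩ hy0).2 x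
            have h2 : coe c (φ y hy x') = x' := by
              rw [show φ y hy = coe c⁻¹ from hyc.symm]
              have hcc : coe c * coe c⁻¹ = 1 := by rw [← coe_mul, mul_inv_cancel₀ hc, coe_one]
              exact DFunLike.congr_fun hcc x'
            rw [h2, hφval y hy, hry _ (hsU x'), hs0]
        obtain ⟨g, hg⟩ := hlowc c
        refine ⟨g, ?_⟩
        rw [hg]
        congr 1
        apply Cfsg.Lib.Linear.Dickson.ext_two <;>
          simp [Cfsg.Lib.Linear.Dickson.tL_coe, Matrix.SpecialLinearGroup.transvection, Matrix.transvection,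
            Matrix.single]
      · exact absurd rfl hij
  have hker : μ.ker = (centralizer ((V ⊔ U : Subgroup G) : Set G)).subgroupOf H := by
    ext g
    rw [MonoidHom.mem_ker, mem_subgroupOf, mem_centralizer']
    constructor
    · intro e w hw
      obtain ⟨z, hz⟩ := εe.surjective ⟨w, hw⟩
      have h1 : εe.symm (cW g (εe z)) = z := congrArg (fun π : Equiv.Perm (A × A) => π z) e
      rw [Equiv.symm_apply_eq, hz] at h1
      have h2 : (g : G) * w * (g : G)⁻¹ = w := congrArg Subtype.val h1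
      exact (mul_inv_eq_iff_eq_mul.1 h2).symm
    · intro hg
      refine Equiv.ext fun z => εe.symm_apply_eq.2 (Subtype.ext ?_)
      show (g : G) * (εe z : G) * (g : G)⁻¹ = (εe z : G)
      rw [← hg _ (εe z).2, mul_inv_cancel_right]
  exact ⟨(QuotientGroup.quotientMulEquivOfEq hker.symm).trans ((QuotientGroup.quotientKerEquivRange μ).trans
    ((MulEquiv.subgroupCongr hrange).trans (MonoidHom.ofInjective hηinj).symm))⟩

end Cfsg.Lib.TIPair
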