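import Cfsg.Agent.Lib.TIPair.Member

/-!
The relation is symmetric: `V` is a member for `U`.
-/

set_option autoImplicit false
set_option linter.style.haveILetI false

namespace Cfsg.Lib.TIPair

open Subgroup
open scoped commutatorElement

variable {G : Type*} [Group G] [Finite G] {V U : Subgroup G}

theorem Member.V_le_Pg (h : Hyp V) (hU : Member V U) : V ≤ Pg U := by
  by_contra hnot
  have hUh := hU.hyp h
  have hVU : ∀ v ∈ V, v ∈ Mg U := fun v hv => hU.le_Mg h hv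
  have hVc : ∀ v ∈ V, v ∈ centralizer (U : Set G) := fun v hv =>
    mem_centralizer'.2 fun u hu => (hU.commute hu hv).symm
  have hUW : U ≤ V ⊔ U := le_sup_right
  -- (i) no element of `Pg U` moves `V` inside `V ⊔ U`
  have hi : ∀ r ∈ Pg U, ∀ g w : G, cj g V = cj r V → w ∈ cj g V → w ∈ V ⊔ U → w ≠ 1 → r ∈ Mg V := by
    intro r hr g w hgr hw hwW hw1
    rcases hU.eq_of_meets h hw hwW hw1 with he | ⟨y, hy, he⟩
    · exact mem_Mg_of_cj (hgr ▸ he)
    exfalso
    rw [hgr] at he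
    have hrU : cj r U = U := cj_of_mem_centralizer hr.2
    have hne : cj r V ≠ U := fun e => hU.ne (by
      have := congrArg (cj r⁻¹) e
      rw [cj_cj, inv_mul_cancel, cj_one, cj_of_mem_centralizer (inv_mem hr.2)] at this
      exact this.symm)
    have hyc : y ∉ centralizer (U : Set G) := fun hc => hne (he.trans (cj_of_mem_centralizer hc))
    have h1 : U ≤ cj y (Pg U) := by
      rw [← Pg_cj, ← he, Pg_cj]
      rintro u hu
      exact mem_cj.2 (hU.le (by
        have : u ∈ cj r U := hrU.symm ▸ hu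
        exact mem_cj.1 this))
    refine hnot fun v hv => ?_
    obtain ⟨u, hu, huv⟩ := hU.exists_commutator_right h (inv_mem hy)
      (fun hc => hyc (by simpa using inv_mem hc)) hv
    have h2 : y⁻¹ * u * y ∈ Pg U := mem_cj.1 (h1 hu)
    have hUP : u ∈ Pg U := hUh.V_le_Pg hu
    rw [← huv, show ⁅y⁻¹, u⁆ = (y⁻¹ * u * y) * u⁻¹ by simp [commutatorElement_def]]
    exact mul_mem h2 (inv_mem hUP)
  -- (ii) `V ∩ Pg U = 1`
  have hii : ∀ v ∈ V, v ∈ Pg U → v = 1 := by
    intro v hv hvP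
    by_contra hv1
    have hvU : v ∉ U := fun hvu => hv1 (hU.inter h hvu hv)
    obtain ⟨r, hr, hrv⟩ : ∃ r ∈ Pg U, r * v ≠ v * r := by
      by_contra hh
      push Not at hh
      exact hvU (hUh.center_Pg hvP hh)
    have hc : ⁅r, v⁆ ∈ U := hUh.commutator_mem hr hvP
    have hmem : r * v * r⁻¹ ∈ V ⊔ U := by
      rw [show r * v * r⁻¹ = ⁅r, v⁆ * v by simp [commutatorElement_def, mul_assoc]]
      exact mul_mem (mem_sup_right hc) (mem_sup_left hv)
    have hrM : r ∈ Mg V := hi r hr r _ rfl (mem_cj_self hv) hmem (fun e => hv1 (conj_eq_one_iff.1 e))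
    refine hrv (commutatorElement_eq_one_iff_mul_comm.1 (hU.inter h hc ?_))
    rw [commutatorElement_def]
    exact mul_mem ((mem_normalizer_iff.1 hrM v).1 hv) (inv_mem hv)
  -- (iii)
  have hiii : ∀ r ∈ Pg U, ∀ v ∈ V, v ≠ 1 → ⁅r, v⁆ ∈ U → r ∈ Mg V := by
    intro r hr v hv hv1 hc
    refine hi r hr r (r * v * r⁻¹) rfl (mem_cj_self hv) ?_ (fun e => hv1 (conj_eq_one_iff.1 e))
    rw [show r * v * r⁻¹ = ⁅r, v⁆ * v by simp [commutatorElement_def, mul_assoc]]
    exact mul_mem (mem_sup_right hc) (mem_sup_left hv)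
  have hE : ∀ e ∈ Pg U, e ∈ Mg V → e ∈ centralizer (V : Set G) := by
    intro e he heM
    refine mem_centralizer'.2 fun v hv => ?_
    have h1 : ⁅e, v⁆ ∈ V := by
      rw [commutatorElement_def]; exact mul_mem ((mem_normalizer_iff.1 heM v).1 hv) (inv_mem hv)
    have h2 : ⁅e, v⁆ ∈ Pg U := by
      rw [commutatorElement_def, show e * v * e⁻¹ * v⁻¹ = e * (v * e⁻¹ * v⁻¹) by group]
      exact mul_mem he (Pg_conj_mem (hVU v hv) (inv_mem he))
    exact (commutatorElement_eq_one_iff_mul_comm.1 (hii _ h1 h2)).symm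
  have hcommP : ∀ r ∈ Pg U, ∀ v ∈ V, ⁅r, v⁆ ∈ Pg U := fun r hr v hv => by
    rw [commutatorElement_def, show r * v * r⁻¹ * v⁻¹ = r * (v * r⁻¹ * v⁻¹) by group]
    exact mul_mem hr (Pg_conj_mem (hVU v hv) (inv_mem hr))
  have hfix : ∀ r ∈ Pg U, ∀ v ∈ V, v ≠ 1 → ⁅r, v⁆ ∈ Mg V := by
    intro r hr v hv hv1
    set f := ⁅r, v⁆ with hf
    have hfP : f ∈ Pg U := hcommP r hr v hv
    refine hiii f hfP v hv hv1 ?_
    have hv2 : v⁻¹ = v := inv_eq_of_mul_eq_one_right (h.sq v hv)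
    have : ⁅f, v⁆ = f * f := by
      have h3 : v * f⁻¹ * v = f := by
        rw [hf, commutatorElement_def, hv2]
        calc v * (r * v * r⁻¹ * v)⁻¹ * v = v * v⁻¹ * r * v⁻¹ * r⁻¹ * v := by group
          _ = r * v * r⁻¹ * v := by rw [mul_inv_cancel, one_mul, hv2]
      calc ⁅f, v⁆ = f * (v * f⁻¹ * v⁻¹) := by simp [commutatorElement_def, mul_assoc]
        _ = f * f := by rw [hv2, h3]
    rw [this]
    exact hUh.sq_mem hfP
  -- (iv)
  have hiv : ∀ s ∈ Pg U, (∀ e ∈ Pg U, e ∈ Mg V → s * e = e * s) → s ∈ Mg V := by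
    intro s hs hse
    obtain ⟨⟨v, hv⟩, hv1⟩ := ne_bot_iff_exists_ne_one.1 h.ne_bot
    have hv1' : v ≠ 1 := fun e => hv1 (Subtype.ext e)
    have hv2 : v⁻¹ = v := inv_eq_of_mul_eq_one_right (h.sq v hv)
    refine hiii s hs v hv hv1' ?_
    set σ := ⁅s, v⁆ with hσ
    have hσP : σ ∈ Pg U := hcommP s hs v hv
    refine hUh.center_Pg hσP fun r hr => ?_
    set ρ := ⁅r, v⁆ with hρ
    have hρP : ρ ∈ Pg U := hcommP r hr v hv
    have hρM : ρ ∈ Mg V := hfix r hr v hv hv1'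
    have hsv : v * s * v⁻¹ = σ⁻¹ * s := by simp [hσ, commutatorElement_def, mul_assoc]
    have hrv : v * r * v⁻¹ = ρ⁻¹ * r := by simp [hρ, commutatorElement_def, mul_assoc]
    have hsρ : ⁅s, ρ⁻¹⁆ = 1 :=
      commutatorElement_eq_one_iff_mul_comm.2 (hse _ (inv_mem hρP) (inv_mem hρM))
    have hve : ∀ e ∈ Pg U, e ∈ Mg V → Commute v e := fun e he heM =>
      mem_centralizer'.1 (hE e he heM) v hv
    have hσρ : ⁅σ⁻¹, ρ⁻¹⁆ = 1 := by
      refine commutatorElement_eq_one_iff_mul_comm.2 ?_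
      have h1 : Commute s ρ⁻¹ := hse _ (inv_mem hρP) (inv_mem hρM)
      have h2 : Commute v ρ⁻¹ := hve _ (inv_mem hρP) (inv_mem hρM)
      have hσ' : σ⁻¹ = v * s * v⁻¹ * s⁻¹ := by simp [hσ, commutatorElement_def, mul_assoc]
      rw [hσ']
      exact (((h2.mul_left h1).mul_left h2.inv_left).mul_left h1.inv_left).eq
    have hv' : v * ⁅s, r⁆ * v⁻¹ = ⁅s, r⁆ := by
      rw [mem_centralizer'.1 (hVc v hv) _ (hUh.commutator_mem hs hr) |>.symm, mul_inv_cancel_right]
    have hkey : ⁅σ⁻¹ * s, ρ⁻¹ * r⁆ = ⁅s, r⁆ := by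
      rw [← hsv, ← hrv]
      conv_rhs => rw [← hv']
      simp [commutatorElement_def, mul_assoc]
    rw [hUh.commutator_mul_left' (inv_mem hσP) hs (mul_mem (inv_mem hρP) hr),
      hUh.commutator_mul_right' (inv_mem hρP) hr (inv_mem hσP),
      hUh.commutator_mul_right' (inv_mem hρP) hr hs, hsρ, hσρ, one_mul, one_mul, mul_eq_right] at hkey
    have := commutatorElement_eq_one_iff_mul_comm.1 hkey
    calc r * σ = σ * (σ⁻¹ * r) * σ := by group
      _ = σ * (r * σ⁻¹) * σ := by rw [this]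
      _ = σ * r := by group
  -- (v) `Z (P ∩ C(U))` lies in `V ⊔ U`
  obtain ⟨Y, hY, hYc⟩ := hU.exists_partner h
  have hYs := hU.partner_symm h hY hYc
  have hDc : ∀ a ∈ Pg V, a ∈ centralizer (U : Set G) →
      (∀ d ∈ Pg V, d ∈ centralizer (U : Set G) → a * d = d * a) → a ∈ V ⊔ U := by
    intro a ha haU had
    obtain ⟨u, hu, c, hcP, hcY, rfl⟩ := hY.decompose h hU hYs ha
    refine mul_mem (mem_sup_right hu) (mem_sup_left (h.center_Pg hcP fun p hp => ?_))
    obtain ⟨y, hy, d, hdP, hdU, rfl⟩ := hU.decompose h hY hYc hp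
    have h1 : Commute c y := (mem_centralizer'.1 hcY y hy).symm
    have h2 : Commute c d := by
      have hud : Commute u d := mem_centralizer'.1 hdU u hu
      have := (hud.inv_left.mul_left (had d hdP hdU : Commute (u * c) d))
      simpa using this
    exact (h1.mul_right h2).eq.symm
  have hA : ∀ d ∈ Pg V, d ∈ centralizer (U : Set G) → ∀ e ∈ Pg U, e ∈ Mg V → ⁅d, e⁆ ∈ U := by
    intro d hd hdU e he heM
    set a := ⁅d, e⁆
    have ha : a ∈ Pg V := by
      rw [show a = d * (e * d⁻¹ * e⁻¹) by simp [a, commutatorElement_def, mul_assoc]]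
      exact mul_mem hd (Pg_conj_mem heM (inv_mem hd))
    have ha' : a ∈ Pg U := mul_mem (Pg_conj_mem (centralizer_le_normalizer _ hdU) he) (inv_mem he)
    have haW : a ∈ V ⊔ U := by
      refine hDc a ha ha'.2 fun d' hd' hd'U => ?_
      have h1 : ⁅d', a⁆ ∈ V := h.commutator_mem hd' ha
      have h2 : ⁅d', a⁆ ∈ Pg U := mul_mem (Pg_conj_mem (centralizer_le_normalizer _ hd'U) ha') (inv_mem ha')
      exact (commutatorElement_eq_one_iff_mul_comm.1 (hii _ h1 h2)).symm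
    obtain ⟨v, hv, u, hu, huv⟩ := hU.mem_sup haW
    have hv' : v ∈ Pg U := by
      rw [show v = a * u⁻¹ by rw [← huv]; group]
      exact mul_mem ha' (inv_mem (hUh.V_le_Pg hu))
    rw [← huv, hii v hv hv', one_mul]
    exact hu
  -- (vi) `P ∩ C(U)` is abelian
  have hab : ∀ d1 ∈ Pg V, d1 ∈ centralizer (U : Set G) → ∀ d2 ∈ Pg V, d2 ∈ centralizer (U : Set G) →
      d1 * d2 = d2 * d1 := by
    intro d1 hd1 hd1U d2 hd2 hd2U
    have hg : ∀ d ∈ Pg V, d ∈ centralizer (U : Set G) → ∀ r ∈ Pg U, ⁅d, r⁆ ∈ Pg U ∧ ⁅d, r⁆ ∈ Mg V := by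
      intro d hd hdU r hr
      have hdM : d ∈ Mg U := centralizer_le_normalizer _ hdU
      have hP : ⁅d, r⁆ ∈ Pg U := mul_mem (Pg_conj_mem hdM hr) (inv_mem hr)
      refine ⟨hP, hiv _ hP fun e he heM => ?_⟩
      have hc : ⁅d, e⁆ ∈ U := hA d hd hdU e he heM
      have h1 : ⁅d * r * d⁻¹, d * e * d⁻¹⁆ = ⁅r, e⁆ := by
        calc ⁅d * r * d⁻¹, d * e * d⁻¹⁆ = d * ⁅r, e⁆ * d⁻¹ := by simp [commutatorElement_def, mul_assoc]
          _ = ⁅r, e⁆ := by
            rw [← mem_centralizer'.1 hdU _ (hUh.commutator_mem hr he), mul_inv_cancel_right]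
      rw [show d * r * d⁻¹ = ⁅d, r⁆ * r by simp [commutatorElement_def, mul_assoc],
        show d * e * d⁻¹ = ⁅d, e⁆ * e by simp [commutatorElement_def, mul_assoc],
        hUh.commutator_mul_left' hP hr (mul_mem (hUh.V_le_Pg hc) he),
        hUh.commutator_mul_right' (hUh.V_le_Pg hc) he hP,
        hUh.commutator_mul_right' (hUh.V_le_Pg hc) he hr,
        commutatorElement_eq_one_iff_mul_comm.2 (Pg_commute_V hP hc).symm,
        commutatorElement_eq_one_iff_mul_comm.2 (Pg_commute_V hr hc).symm, one_mul, one_mul, mul_eq_right] at h1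
      exact commutatorElement_eq_one_iff_mul_comm.1 h1
    by_contra hne
    set v := ⁅d1, d2⁆ with hvdef
    have hvV : v ∈ V := h.commutator_mem hd1 hd2
    have hv1 : v ≠ 1 := fun e => hne (commutatorElement_eq_one_iff_mul_comm.1 e)
    have hall : ∀ r ∈ Pg U, ⁅v, r⁆ ∈ U := by
      intro r hr
      have hM1 : d1 ∈ Mg U := centralizer_le_normalizer _ hd1U
      have hM2 : d2 ∈ Mg U := centralizer_le_normalizer _ hd2U
      set r' := (d2 * d1)⁻¹ * r * (d2 * d1) with hr'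
      have hr'P : r' ∈ Pg U := by
        have := Pg_conj_mem (inv_mem (mul_mem hM2 hM1)) hr
        rwa [inv_inv] at this
      obtain ⟨g1P, g1M⟩ := hg d1 hd1 hd1U r' hr'P
      obtain ⟨g2P, g2M⟩ := hg d2 hd2 hd2U r' hr'P
      set g1 := ⁅d1, r'⁆ with hg1
      set g2 := ⁅d2, r'⁆ with hg2
      set c1 := ⁅d1, g2⁆ with hc1d
      set c2 := ⁅d2, g1⁆ with hc2d
      have c1U : c1 ∈ U := hA d1 hd1 hd1U g2 g2P g2M
      have c2U : c2 ∈ U := hA d2 hd2 hd2U g1 g1P g1M
      have e2 : r = c2 * g1 * g2 * r' := by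
        simp [hr', hc2d, hg1, hg2, commutatorElement_def, mul_assoc]
      have e1 : v * r * v⁻¹ = c1 * g2 * g1 * r' := by
        simp [hr', hc1d, hg1, hg2, hvdef, commutatorElement_def, mul_assoc]
      rw [show ⁅v, r⁆ = v * r * v⁻¹ * r⁻¹ from commutatorElement_def _ _, e1, e2,
        show c1 * g2 * g1 * r' * (c2 * g1 * g2 * r')⁻¹ = c1 * ⁅g2, g1⁆ * c2⁻¹ by
          simp [commutatorElement_def, mul_assoc]]
      exact mul_mem (mul_mem c1U (hUh.commutator_mem g2P g1P)) (inv_mem c2U)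
    exact hv1 (hii v hvV (hUh.mem_Pg_of_stabilizes (hVU v hvV) (hVc v hvV) hall))
  -- (vii) `Pg U ∩ N(V) = U`
  have hEU : ∀ e ∈ Pg U, e ∈ Mg V → e ∈ U := by
    intro e he heM
    have heV := hE e he heM
    have heU : e ∈ centralizer (U : Set G) := he.2
    have hDW : ∀ d ∈ Pg V, d ∈ centralizer (U : Set G) → d ∈ V ⊔ U := fun d hd hdU =>
      hDc d hd hdU fun d' hd' hd'U => hab d hd hdU d' hd' hd'U
    have heW : ∀ w ∈ V ⊔ U, e * w = w * e := by
      intro w hw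
      obtain ⟨v, hv, u, hu, rfl⟩ := hU.mem_sup hw
      have c1 : Commute e v := (mem_centralizer'.1 heV v hv).symm
      have c2 : Commute e u := (mem_centralizer'.1 heU u hu).symm
      exact (c1.mul_right c2).eq
    have hey : ∀ y ∈ Y, ⁅e, y⁆ ∈ V := by
      intro y hy
      set g := ⁅e, y⁆ with hg
      have hgP : g ∈ Pg V := mul_mem (Pg_conj_mem heM (hY.le hy)) (inv_mem (hY.le hy))
      have hgU : g ∈ centralizer (U : Set G) := by
        refine mem_centralizer'.2 fun u hu => ?_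
        have hyu : ⁅y, u⁆ ∈ V := h.commutator_mem (hY.le hy) (hU.le hu)
        have h1 : ⁅e * y * e⁻¹, u⁆ = ⁅y, u⁆ := by
          calc ⁅e * y * e⁻¹, u⁆ = ⁅e * y * e⁻¹, e * u * e⁻¹⁆ := by
                rw [show e * u * e⁻¹ = u by rw [heW u (mem_sup_right hu), mul_inv_cancel_right]]
            _ = e * ⁅y, u⁆ * e⁻¹ := by simp [commutatorElement_def, mul_assoc]
            _ = ⁅y, u⁆ := by rw [heW _ (mem_sup_left hyu), mul_inv_cancel_right]
        rw [show e * y * e⁻¹ = g * y by simp [hg, commutatorElement_def, mul_assoc],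
          h.commutator_mul_left' hgP (hY.le hy) (hU.le hu), mul_eq_right] at h1
        exact (commutatorElement_eq_one_iff_mul_comm.1 h1).symm
      obtain ⟨v, hv, u, hu, hvu⟩ := hU.mem_sup (hDW g hgP hgU)
      by_cases hy1 : y = 1
      · rw [hg, hy1, commutatorElement_one_right]; exact one_mem _
      suffices hu1 : u = 1 by rw [← hvu, hu1, mul_one]; exact hv
      by_contra hu1
      have hsq : (v * (u * y)) * (v * (u * y)) = 1 := by
        rw [← mul_assoc v u y, hvu, show g * y = e * y * e⁻¹ by simp [hg, commutatorElement_def, mul_assoc],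
          show e * y * e⁻¹ * (e * y * e⁻¹) = e * (y * y) * e⁻¹ by group, (hY.hyp h).sq y hy]
        simp
      have cuv : Commute u v := (hU.commute hu hv).symm
      have cyv : Commute y v := (hY.commute hy hv).symm
      have hcv : Commute (u * y) v := cuv.mul_left cyv
      rw [show (v * (u * y)) * (v * (u * y)) = v * ((u * y) * v) * (u * y) by group, hcv.eq,
        show v * (v * (u * y)) * (u * y) = (v * v) * ((u * y) * (u * y)) by group, h.sq v hv, one_mul] at hsq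
      have hcm : y * u = u * y := by
        calc y * u = (u * u) * (y * u) * (y * y) := by
              rw [(hU.hyp h).sq u hu, (hY.hyp h).sq y hy, one_mul, mul_one]
          _ = u * ((u * y) * (u * y)) * y := by group
          _ = u * y := by rw [hsq, mul_one]
      exact hy1 (hYc y hy (hU.centralizes h (hY.le hy) hu hu1 hcm))
    have hePV : e ∈ Pg V := by
      refine h.mem_Pg_of_stabilizes heM heV fun p hp => ?_
      obtain ⟨y, hy, d, hdP, hdU, rfl⟩ := hU.decompose h hY hYc hp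
      rw [commutatorElement_mul_right_eq_mul_conj,
        commutatorElement_eq_one_iff_mul_comm.2 (heW d (hDW d hdP hdU)), mul_one, mul_inv_cancel_right]
      exact hey y hy
    obtain ⟨v, hv, u, hu, hvu⟩ := hU.mem_sup (hDW e hePV heU)
    have hv' : v ∈ Pg U := by
      rw [show v = e * u⁻¹ by rw [← hvu]; group]
      exact mul_mem he (inv_mem (hUh.V_le_Pg hu))
    rw [← hvu, hii v hv hv', one_mul]
    exact hu
  -- contradiction
  obtain ⟨⟨v, hv⟩, hv1⟩ := ne_bot_iff_exists_ne_one.1 h.ne_bot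
  have hv1' : v ≠ 1 := fun e => hv1 (Subtype.ext e)
  obtain ⟨r, hr, hrU⟩ : ∃ r ∈ Pg U, r ∉ U := by
    by_contra hh
    push Not at hh
    obtain ⟨g, rfl⟩ := hU.conj
    obtain ⟨⟨x, hx⟩, hx1⟩ := ne_bot_iff_exists_ne_one.1 hUh.ne_bot
    have hxP : g * x * g⁻¹ ∈ Pg (cj g V) := by rw [Pg_cj]; exact mem_cj_self (hU.le hx)
    have hxV : x ∈ V := by simpa [mul_assoc] using mem_cj.1 (hh _ hxP)
    exact hx1 (Subtype.ext (hU.inter h hx hxV))
  have hf : ⁅r, v⁆ ∈ U := hEU _ (hcommP r hr v hv) (hfix r hr v hv hv1')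
  exact hrU (hEU r hr (hiii r hr v hv hv1' hf))

/-- `V` is a member for `U`. -/
theorem Member.symm (h : Hyp V) (hU : Member V U) : Member U V where
  conj := by
    obtain ⟨g, rfl⟩ := hU.conj
    exact ⟨g⁻¹, by rw [cj_cj, inv_mul_cancel, cj_one]⟩
  ne := hU.ne.symm
  le := hU.V_le_Pg h

/-- The normalizer of `V` is transitive on the involutions of `V`. -/
theorem Member.transitive (h : Hyp V) (hU : Member V U) {v₁ v₂ : G} (h1 : v₁ ∈ V) (h1' : v₁ ≠ 1)
    (h2 : v₂ ∈ V) (h2' : v₂ ≠ 1) : ∃ m ∈ Mg V, m * v₁ * m⁻¹ = v₂ := by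
  have hV' := hU.symm h
  have hUh := hU.hyp h
  obtain ⟨⟨u, hu⟩, hu1⟩ := ne_bot_iff_exists_ne_one.1 hUh.ne_bot
  have hu1' : u ≠ 1 := fun e => hu1 (Subtype.ext e)
  obtain ⟨r, hr, hrv⟩ := hV'.exists_commutator_left hUh h1 h1' hu
  obtain ⟨p, hp, hpu⟩ := hU.exists_commutator_left h hu hu1' (mul_mem h2 (inv_mem h1))
  obtain ⟨r', hr', hrv'⟩ := hV'.exists_commutator_left hUh h2 h2' hu
  have key : r' * p * r * v₁ * (r' * p * r)⁻¹ = v₂ := by
    have e1 : r * v₁ * r⁻¹ = u * v₁ := by rw [← hrv]; simp [commutatorElement_def, mul_assoc]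
    have c1 : Commute u v₁ := (hU.commute hu h1 : Commute v₁ u).symm
    have c2 : Commute u v₂ := (hU.commute hu h2 : Commute v₂ u).symm
    have e2 : p * (u * v₁) * p⁻¹ = u * v₂ := by
      have hp1 : p * v₁ = v₁ * p := (Pg_commute_V hp h1).symm
      calc p * (u * v₁) * p⁻¹ = (p * u * p⁻¹) * (p * v₁ * p⁻¹) := by group
        _ = ⁅p, u⁆ * u * v₁ := by rw [hp1]; simp [commutatorElement_def, mul_assoc]
        _ = v₂ * v₁⁻¹ * (u * v₁) := by rw [hpu, mul_assoc]
        _ = u * v₂ := by rw [c1.eq, mul_assoc, inv_mul_cancel_left, c2.eq]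
    have hc : r' * v₂ * r'⁻¹ = u * v₂ := by rw [← hrv']; simp [commutatorElement_def, mul_assoc]
    have hru : r' * u = u * r' := (mem_centralizer'.1 hr'.2 u hu).symm
    calc r' * p * r * v₁ * (r' * p * r)⁻¹ = r' * (p * (r * v₁ * r⁻¹) * p⁻¹) * r'⁻¹ := by group
      _ = (r' * u) * v₂ * r'⁻¹ := by rw [e1, e2]; group
      _ = u * (r' * v₂ * r'⁻¹) := by rw [hru]; group
      _ = v₂ := by rw [hc, ← mul_assoc, hUh.sq u hu, one_mul]
  refine ⟨r' * p * r, ?_, key⟩
  refine mem_Mg_of_cj ?_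
  have hmem : v₂ ∈ cj (r' * p * r) V := key ▸ mem_cj_self h1
  have := h.ti' (x := r' * p * r) (y := 1) hmem (by rw [cj_one]; exact h2) h2'
  rwa [cj_one] at this

/-- `Q = P`. -/
theorem Member.Qg_eq (h : Hyp V) (hU : Member V U) : Qg V = Pg V := by
  refine le_antisymm (le_inf le_rfl ?_) inf_le_left
  haveI : Fact (Nat.Prime 2) := ⟨Nat.prime_two⟩
  set Q := Qg V with hQ
  haveI : (V.subgroupOf Q).Normal := ⟨fun a ha q => (mem_normalizer_iff.1 (Qg_le_Mg V q.2) _).1 ha⟩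
  have hne : V.subgroupOf Q ≠ ⊥ := fun e => h.ne_bot (by
    rw [← map_subgroupOf_eq_of_le h.V_le_Qg, e, Subgroup.map_bot])
  obtain ⟨⟨⟨z, hzQ⟩, hzV, hzc⟩, hz1⟩ := ne_bot_iff_exists_ne_one.1
    (Cfsg.Lib.PGroup.inf_center_ne_bot (isPGroup_Qg V) (N := V.subgroupOf Q) hne)
  have hz1' : z ≠ 1 := fun e => hz1 (Subtype.ext (Subtype.ext e))
  intro q hq
  refine mem_centralizer'.2 fun v hv => ?_
  by_cases hv1 : v = 1
  · simp [hv1]
  obtain ⟨m, hm, hmz⟩ := hU.transitive h hzV hz1' hv hv1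
  have hq' : m⁻¹ * q * m ∈ Q := by
    have := Qg_conj_mem (inv_mem hm) hq
    rwa [inv_inv] at this
  have := congrArg Subtype.val (mem_center_iff.1 hzc ⟨m⁻¹ * q * m, hq'⟩)
  simp only [Subgroup.coe_mul] at this
  simp only [Subgroup.subtype_apply] at hmz
  calc v * q = m * (z * (m⁻¹ * q * m)) * m⁻¹ := by rw [← hmz]; group
    _ = m * (m⁻¹ * q * m * z) * m⁻¹ := by rw [this]
    _ = q * v := by rw [← hmz]; group

end Cfsg.Lib.TIPair
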